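import Groth.Agent.Lib.RelProjK.Local
import Groth.Agent.Lib.RelProjK.Tensor
import Groth.Agent.Lib.VA.Tensor
import Groth.Agent.Lib.OX.PullbackTensor
import Groth.Agent.Lib.InvExt.Gen

/-!
# Periods: `O(n)` and `O(-n)` are inverse over a quasi-compact open
-/

set_option autoImplicit false
set_option backward.isDefEq.respectTransparency false
set_option maxHeartbeats 800000
set_option synthInstance.maxHeartbeats 80000

universe u

open CategoryTheory AlgebraicGeometry TopologicalSpace Opposite MonoidalCategory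
open GrothLib.RelProjK
open GrothLib.InvExt (mres IsGen)

noncomputable section

namespace GrothLib.RelTilde8

variable {S P : Scheme.{u}} {𝒮 : RelProj.QCGrAlg S} {p : P ⟶ S}
  {chart : ∀ (U : S.Opens) (hU : IsAffineOpen U), (((p ⁻¹ᵁ U : P.Opens) : Scheme.{u}) ≅ Proj (𝒮.deg U hU))}

theorem em_bijective_app {U : S.AffineZariskiSite} {W : P.Opens} (hW : W ≤ p ⁻¹ᵁ U.1) :
    Function.Bijective ((em p chart U).app W).hom := by
  haveI := (em p chart U).isIso_app W fun x hx => (mem_opensRange_em U).mpr (hW hx)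
  exact ConcreteCategory.bijective_of_isIso ((em p chart U).app W)

/-- A section read as an invertible fraction generates. -/
theorem isGen_of_onChart {n : ℤ} {L : P.Modules}
    {lam : ∀ (U : S.Opens) (hU : IsAffineOpen U),
      L ⟶ (Scheme.Modules.pushforward (RelProj.emb p chart U hU)).obj (GrTwist.twist (𝒮.deg U hU) n)}
    (hL : RelProj.IsRelTwist 𝒮 p chart n L lam) (U : S.AffineZariskiSite) {D : P.Opens} (hD : D ≤ p ⁻¹ᵁ U.1)
    {i j : ℕ} {A B : 𝒮.presheaf.obj (op U.1)} (hA : A ∈ dg 𝒮 U i) (hB : B ∈ dg 𝒮 U j)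
    (ninA : ∀ w : (em p chart U ⁻¹ᵁ D : (Proj (dg 𝒮 U)).Opens), A ∉ w.1.asHomogeneousIdeal)
    (ninB : ∀ w : (em p chart U ⁻¹ᵁ D : (Proj (dg 𝒮 U)).Opens), B ∉ w.1.asHomogeneousIdeal)
    (hd : (i : ℤ) = j + n) (t : Γ(L, D)) (ht : onChart lam U t = ofSec (fracSec A B hA hB ninB hd)) :
    IsGen L D t := by
  intro W hW
  have hWU : W ≤ p ⁻¹ᵁ U.1 := hW.trans hD
  have hA' : ∀ w : (em p chart U ⁻¹ᵁ W : (Proj (dg 𝒮 U)).Opens), A ∉ w.1.asHomogeneousIdeal :=
    fun w => ninA ⟨w.1, hW w.2⟩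
  have hB' : ∀ w : (em p chart U ⁻¹ᵁ W : (Proj (dg 𝒮 U)).Opens), B ∉ w.1.asHomogeneousIdeal :=
    fun w => ninB ⟨w.1, hW w.2⟩
  have hb := bijective_smul_fracSec hA hB hA' hB' hd
  refine (Function.Bijective.of_comp_iff' (hL.bijective U.1 U.2 W hWU) _).mp ?_
  have e : ((lam U.1 U.2).app W ∘ fun c : Γ(P, W) => c • mres L hW t : Γ(P, W) →
      GrTwist.sectN (𝒜 := dg 𝒮 U) n (op (em p chart U ⁻¹ᵁ W))) =
      (fun r => r • fracSec A B hA hB hB' hd) ∘ ((em p chart U).app W).hom := by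
    funext c
    refine ((lam U.1 U.2).app_smul c _).trans ?_
    refine congrArg (fun v : Γ(Tw p chart n U, W) => c • v) ?_
    refine (app_tr (lam U.1 U.2) hW t).trans ?_
    rw [show (lam U.1 U.2).app D t = onChart lam U t from rfl, ht]
    rfl
  show Function.Bijective ((lam U.1 U.2).app W ∘ fun c : Γ(P, W) => c • mres L hW t : Γ(P, W) →
      GrTwist.sectN (𝒜 := dg 𝒮 U) n (op (em p chart U ⁻¹ᵁ W)))
  rw [e]
  exact hb.comp (em_bijective_app hWU)

section pair

variable (hP : RelProj.IsRelProj 𝒮 p chart) {n : ℤ} {L L' L0 : P.Modules}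
  {lam : ∀ (U : S.Opens) (hU : IsAffineOpen U),
    L ⟶ (Scheme.Modules.pushforward (RelProj.emb p chart U hU)).obj (GrTwist.twist (𝒮.deg U hU) n)}
  (hL : RelProj.IsRelTwist 𝒮 p chart n L lam)
  {lam' : ∀ (U : S.Opens) (hU : IsAffineOpen U),
    L' ⟶ (Scheme.Modules.pushforward (RelProj.emb p chart U hU)).obj (GrTwist.twist (𝒮.deg U hU) (-n))}
  (hL' : RelProj.IsRelTwist 𝒮 p chart (-n) L' lam')
  {lam0 : ∀ (U : S.Opens) (hU : IsAffineOpen U),
    L0 ⟶ (Scheme.Modules.pushforward (RelProj.emb p chart U hU)).obj (GrTwist.twist (𝒮.deg U hU) 0)}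
  (hL0 : RelProj.IsRelTwist 𝒮 p chart 0 L0 lam0)

theorem one_notMem {U : S.AffineZariskiSite} (y : ProjectiveSpectrum (dg 𝒮 U)) :
    (1 : 𝒮.presheaf.obj (op U.1)) ∉ y.asHomogeneousIdeal :=
  fun h => y.isPrime.ne_top ((Ideal.eq_top_iff_one _).mpr h)

include hP hL0 in
/-- The section `1` of `O(0)`. -/
theorem exists_one (W : P.Opens) :
    ∃ e : Γ(L0, W), ∀ (U : S.AffineZariskiSite) (y : ProjectiveSpectrum (dg 𝒮 U)) (hy : em p chart U y ∈ W),
      vl (onChart lam0 U e) y hy = 1 := by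
  obtain ⟨e, he, -⟩ := existsUnique_section hP 0 hL0
    (fun U : S.AffineZariskiSite => (show Γ(Tw p chart 0 U, W) from ofSec (fracSec (1 : 𝒮.presheaf.obj (op U.1)) 1
      SetLike.GradedOne.one_mem SetLike.GradedOne.one_mem (fun w => one_notMem w.1) (n := 0) (by simp))))
    (by
      intro U V h
      refine vl_ext fun y hy => ?_
      rw [vl_cm]
      refine (GrTwist.locMap_mk _ _ _ _ _).trans ?_
      show Localization.mk _ _ = Localization.mk (1 : 𝒮.presheaf.obj (op V.1)) _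
      simp only [map_one])
  refine ⟨e, fun U y hy => (congrArg (fun v => vl v y hy) (he U)).trans ?_⟩
  exact Localization.mk_self (1 : y.asHomogeneousIdeal.toIdeal.primeCompl)

include hP hL hL' hL0 in
/-- Products of inverse invertible fractions agree. -/
theorem tm_eq_tm {Ua Ub : S.AffineZariskiSite} {W : P.Opens} (ha : W ≤ p ⁻¹ᵁ Ua.1) (hb : W ≤ p ⁻¹ᵁ Ub.1)
    (s₁ : Γ(L, W)) (s₁' : Γ(L', W)) (s₂ : Γ(L, W)) (s₂' : Γ(L', W)) (hs₂ : IsGen L W s₂) (hs₂' : IsGen L' W s₂')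
    (h₁ : ∀ y hy, vl (onChart lam Ua s₁) y hy * vl (onChart lam' Ua s₁') y hy = 1)
    (h₂ : ∀ y hy, vl (onChart lam Ub s₂) y hy * vl (onChart lam' Ub s₂') y hy = 1) :
    VA.tm s₁ s₁' = VA.tm s₂ s₂' := by
  obtain ⟨e, he⟩ := exists_one hP hL0 W
  obtain ⟨c, hc⟩ := hs₂.exists_smul_eq le_rfl s₁
  obtain ⟨c', hc'⟩ := hs₂'.exists_smul_eq le_rfl s₁'
  rw [InvExt.mres_self] at hc hc'
  have hm₁ : mulL hP (add_neg_cancel n) hL hL' hL0 s₁ s₁' = e :=
    (hL0.bijective Ua.1 Ua.2 W ha).1 (vl_ext fun y hy => by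
      show vl (onChart lam0 Ua _) y hy = vl (onChart lam0 Ua e) y hy
      rw [vl_mulL, h₁ y hy, he])
  have hm₂ : mulL hP (add_neg_cancel n) hL hL' hL0 s₂ s₂' = e :=
    (hL0.bijective Ub.1 Ub.2 W hb).1 (vl_ext fun y hy => by
      show vl (onChart lam0 Ub _) y hy = vl (onChart lam0 Ub e) y hy
      rw [vl_mulL, h₂ y hy, he])
  have hcc : c * c' = 1 := by
    refine (em_bijective_app (chart := chart) hb).1 ?_
    rw [map_one]
    refine Subtype.ext (funext fun y => HomogeneousLocalization.val_injective _ ?_)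
    have h := congrArg (fun v => vl (onChart lam0 Ub v) y.1 y.2) (hm₁.trans hm₂.symm)
    simp only [vl_mulL, hc, hc', onChart_smul, vl_smul] at h
    rw [mul_mul_mul_comm, h₂ y.1 y.2, mul_one] at h
    rw [map_mul]
    refine ((HomogeneousLocalization.val_mul _ _).trans h).trans ?_
    exact HomogeneousLocalization.val_one.symm
  rw [hc, hc', VA.tm_smul_left, VA.tm_smul_right, smul_smul, hcc, one_smul]

include hP hL hL' in
/-- Over a union of basic opens of period dividing `n`, `O(n) ⊗ O(-n)` is trivial. -/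
theorem nonempty_restrict_tensor_neg_iso {V : P.Opens} {d : ℕ} (hn : (d : ℤ) ∣ n)
    (hd : ∀ x ∈ V, ∃ (U : S.AffineZariskiSite) (y : ProjectiveSpectrum (dg 𝒮 U)) (f : 𝒮.presheaf.obj (op U.1)),
      em p chart U y = x ∧ f ∈ dg 𝒮 U d ∧ f ∉ y.asHomogeneousIdeal) :
    Nonempty ((CohB1.tensorMod L L').restrict V.ι ≅ Coh.structureModule (V : Scheme.{u})) := by
  obtain ⟨L0, lam0, hL0⟩ := exists_isRelTwist (chart := chart) hP (0 : ℤ)
  obtain ⟨q, rfl⟩ := hn
  choose U y f hyx hf hfy using fun x : V => hd x.1 x.2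
  choose i j A B hA hB hij hnin using fun x : V => exists_frac_deg (hf x) q
  let D : V → P.Opens := fun x => V ⊓ em p chart (U x) ''ᵁ Proj.basicOpen (dg 𝒮 (U x)) (f x)
  have hDU : ∀ x, D x ≤ p ⁻¹ᵁ (U x).1 := fun x => inf_le_right.trans (by
    rintro _ ⟨z, -, rfl⟩; exact (mem_opensRange_em (U x)).mp ⟨z, rfl⟩)
  have hDf : ∀ x, ∀ w : (em p chart (U x) ⁻¹ᵁ D x : (Proj (dg 𝒮 (U x))).Opens), f x ∉ w.1.asHomogeneousIdeal := by
    intro x w
    obtain ⟨w', hw', e⟩ := w.2.2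
    obtain rfl := (em p chart (U x)).isOpenEmbedding.injective e
    exact hw'
  choose t ht using fun x => (hL.bijective (U x).1 (U x).2 (D x) (hDU x)).2
    (ofSec (fracSec (A x) (B x) (hA x) (hB x) (fun w => (hnin x w.1 (hDf x w)).2) (hij x)))
  choose t' ht' using fun x => (hL'.bijective (U x).1 (U x).2 (D x) (hDU x)).2
    (ofSec (fracSec (B x) (A x) (hB x) (hA x) (fun w => (hnin x w.1 (hDf x w)).1)
      (show (j x : ℤ) = i x + -((d : ℤ) * q) by rw [hij x]; ring)))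
  have hgt : ∀ x, IsGen L (D x) (t x) := fun x => isGen_of_onChart hL (U x) (hDU x) (hA x) (hB x)
    (fun w => (hnin x w.1 (hDf x w)).1) (fun w => (hnin x w.1 (hDf x w)).2) (hij x) (t x) (ht x)
  have hgt' : ∀ x, IsGen L' (D x) (t' x) := fun x => isGen_of_onChart hL' (U x) (hDU x) (hB x) (hA x)
    (fun w => (hnin x w.1 (hDf x w)).2) (fun w => (hnin x w.1 (hDf x w)).1) _ (t' x) (ht' x)
  have hone : ∀ x (W : P.Opens) (h : W ≤ D x) z hz,
      vl (onChart lam (U x) (mres L h (t x))) z hz * vl (onChart lam' (U x) (mres L' h (t' x))) z hz = 1 := by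
    intro x W h z hz
    have e1 : vl (onChart lam (U x) (mres L h (t x))) z hz = vl (onChart lam (U x) (t x)) z (h hz) :=
      congrArg (fun v => vl v z hz) (app_tr (lam (U x).1 (U x).2) h (t x))
    have e2 : vl (onChart lam' (U x) (mres L' h (t' x))) z hz = vl (onChart lam' (U x) (t' x)) z (h hz) :=
      congrArg (fun v => vl v z hz) (app_tr (lam' (U x).1 (U x).2) h (t' x))
    rw [e1, e2, show onChart lam (U x) (t x) = _ from ht x, show onChart lam' (U x) (t' x) = _ from ht' x]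
    refine (Localization.mk_mul _ _ _ _).trans ?_
    exact (congrArg (fun a => Localization.mk a _) (mul_comm (A x) (B x))).trans (Localization.mk_self
      (⟨B x * A x, fun hm => (z.isPrime.mem_or_mem hm).elim (hnin x z (hDf x ⟨z, h hz⟩)).2
        (hnin x z (hDf x ⟨z, h hz⟩)).1⟩ : z.asHomogeneousIdeal.toIdeal.primeCompl))
  obtain ⟨s, hs⟩ := InvExt.exists_gen_of_glue (M := CohB1.tensorMod L L') D (fun x => VA.tm (t x) (t' x))
    (fun x => VA.isGen_tm (hgt x) (hgt' x))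
    (fun a b => by
      rw [VA.mres_tm, VA.mres_tm]
      exact tm_eq_tm hP hL hL' hL0 (inf_le_left.trans (hDU a)) (inf_le_right.trans (hDU b)) _ _ _ _
        ((hgt b).restrict _) ((hgt' b).restrict _) (hone a _ inf_le_left) (hone b _ inf_le_right))
    V (fun x => inf_le_left) (fun x hx => Opens.mem_iSup.mpr ⟨⟨x, hx⟩, hx, y ⟨x, hx⟩, hfy ⟨x, hx⟩, hyx ⟨x, hx⟩⟩)
  exact InvExt.exists_iso_of_gen hs

end pair

variable (𝒮 p chart) in
/-- A period of a quasi-compact open, in terms of the charts. -/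
theorem exists_period_em {V : P.Opens} (hV : IsCompact (V : Set P)) :
    ∃ d : ℕ, 0 < d ∧ ∀ x ∈ V, ∃ (U : S.AffineZariskiSite) (y : ProjectiveSpectrum (dg 𝒮 U))
      (f : 𝒮.presheaf.obj (op U.1)), em p chart U y = x ∧ f ∈ dg 𝒮 U d ∧ f ∉ y.asHomogeneousIdeal := by
  obtain ⟨d, hd, h⟩ := RelProjK.exists_period 𝒮 p chart hV
  refine ⟨d, hd, fun x hx => ?_⟩
  obtain ⟨U, hU, f, hf, z, hz, rfl⟩ := h x hx
  refine ⟨⟨U, hU⟩, (projIso (𝒮.deg U hU)).hom z, f, rfl, hf, ?_⟩
  have : z ∈ (projIso (𝒮.deg U hU)).hom ⁻¹ᵁ Proj.basicOpen (𝒮.deg U hU) f := by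
    rw [projIso_preimage_basicOpen]; exact hz
  exact this

/-- Restriction commutes with the tensor product. -/
theorem nonempty_restrict_tensorMod_iso {X : Scheme.{u}} (V : X.Opens) (M N : X.Modules) :
    Nonempty (CohB1.tensorMod (M.restrict V.ι) (N.restrict V.ι) ≅ (CohB1.tensorMod M N).restrict V.ι) :=
  ⟨Ample.LineData.tensorModMapIso ((Scheme.Modules.restrictFunctorIsoPullback V.ι).app M)
      ((Scheme.Modules.restrictFunctorIsoPullback V.ι).app N) ≪≫ (OX.pullTensorIso V.ι M N).symm ≪≫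
    ((Scheme.Modules.restrictFunctorIsoPullback V.ι).app _).symm⟩

end GrothLib.RelTilde8
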