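import Mathlib.AlgebraicGeometry.ProjectiveSpectrum.Topology
import Mathlib.RingTheory.GradedAlgebra.Radical
import Mathlib.Algebra.GradedMulAction

/-!
# Killing by powers in graded modules, tested on homogeneous primes
-/

universe u

open DirectSum ProjectiveSpectrum

namespace GrothLib.RelTilde8

variable {A σ : Type u} [CommRing A] [SetLike σ A] [AddSubgroupClass σ A] {𝒜 : ℕ → σ} [GradedRing 𝒜]
variable {M τ : Type u} [AddCommGroup M] [Module A M] [SetLike τ M] [AddSubgroupClass τ M] {ℳ : ℕ → τ}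
variable [SetLike.GradedSMul 𝒜 ℳ]

omit [GradedRing 𝒜] [AddSubgroupClass σ A] [AddSubgroupClass τ M] in
theorem smul_mem {i j : ℕ} {a : A} {m : M} (ha : a ∈ 𝒜 i) (hm : m ∈ ℳ j) : a • m ∈ ℳ (i + j) :=
  SetLike.GradedSMul.smul_mem ha hm

variable [DirectSum.Decomposition ℳ]

theorem decompose_smul_of_mem {i : ℕ} {m : M} (hm : m ∈ ℳ i) (a : A) (j : ℕ) :
    ((decompose ℳ (a • m) (j + i) : ℳ (j + i)) : M) = ((decompose 𝒜 a j : 𝒜 j) : A) • m := by
  classical
  refine DirectSum.Decomposition.inductionOn 𝒜 (motive := fun a : A =>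
    ((decompose ℳ (a • m) (j + i) : ℳ (j + i)) : M) = ((decompose 𝒜 a j : 𝒜 j) : A) • m) ?_ ?_ ?_ a
  · simp
  · intro k b
    rcases eq_or_ne k j with rfl | hk
    · rw [decompose_of_mem_same ℳ (smul_mem b.2 hm), decompose_of_mem_same 𝒜 b.2]
    · rw [decompose_of_mem_ne ℳ (smul_mem b.2 hm) (fun h => hk (Nat.add_right_cancel h)),
        decompose_of_mem_ne 𝒜 b.2 hk, zero_smul]
  · intro x y hx hy
    rw [add_smul, decompose_add, decompose_add, DirectSum.add_apply, DirectSum.add_apply,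
      AddMemClass.coe_add, AddMemClass.coe_add, hx, hy, add_smul]

variable (𝒜) in
theorem pow_mem_of_forall_prime {I : Ideal A} (hI : I.IsHomogeneous 𝒜) {e : ℕ} {h : A} (hh : h ∈ 𝒜 e)
    (he : 0 < e) (H : ∀ p : ProjectiveSpectrum 𝒜, h ∉ p.asHomogeneousIdeal →
      ∃ u ∈ I, u ∉ p.asHomogeneousIdeal) :
    ∃ N : ℕ, h ^ N ∈ I := by
  change h ∈ I.radical
  rw [hI.radical_eq, Ideal.mem_sInf]
  rintro J ⟨hJ, hIJ, hJp⟩
  by_contra hn
  have hirr : h ∈ HomogeneousIdeal.irrelevant 𝒜 := by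
    rw [HomogeneousIdeal.mem_irrelevant_iff, GradedRing.proj_apply, decompose_of_mem_ne 𝒜 hh he.ne']
  obtain ⟨u, hu, hu'⟩ := H ⟨⟨J, hJ⟩, hJp, fun hle => hn (hle hirr)⟩ hn
  exact hu' (hIJ hu)

variable (𝒜) in
theorem exists_pow_smul_eq_zero {i e : ℕ} {h : A} (hh : h ∈ 𝒜 e) (he : 0 < e) {m : M} (hm : m ∈ ℳ i)
    (H : ∀ p : ProjectiveSpectrum 𝒜, h ∉ p.asHomogeneousIdeal →
      ∃ u : A, u ∉ p.asHomogeneousIdeal ∧ u • m = 0) :
    ∃ N : ℕ, h ^ N • m = 0 := by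
  let I : Ideal A :=
    { carrier := {a | a • m = 0}
      zero_mem' := zero_smul A m
      add_mem' := fun {a b} ha hb => by
        simp only [Set.mem_setOf_eq] at ha hb ⊢; rw [add_smul, ha, hb, add_zero]
      smul_mem' := fun c a ha => by
        simp only [Set.mem_setOf_eq] at ha ⊢; rw [smul_assoc, ha, smul_zero] }
  have hI : I.IsHomogeneous 𝒜 := fun j a (ha : a • m = 0) => by
    show ((decompose 𝒜 a j : 𝒜 j) : A) • m = 0
    rw [← decompose_smul_of_mem (ℳ := ℳ) hm a j, ha, decompose_zero, DirectSum.zero_apply, ZeroMemClass.coe_zero]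
  obtain ⟨N, hN⟩ := pow_mem_of_forall_prime 𝒜 hI hh he fun p hp => by
    obtain ⟨u, hu, hu0⟩ := H p hp
    exact ⟨u, hu0, hu⟩
  exact ⟨N, hN⟩

variable (𝒜) in
/-- A power of `h` is a combination of homogeneous elements, with homogeneous coefficients. -/
theorem exists_homogeneous_combination {ι : Type u} (w : ι → A) (q : ι → ℕ) (hw : ∀ i, w i ∈ 𝒜 (q i))
    {e : ℕ} {h : A} (hh : h ∈ 𝒜 e) (he : 0 < e)
    (H : ∀ p : ProjectiveSpectrum 𝒜, h ∉ p.asHomogeneousIdeal → ∃ i, w i ∉ p.asHomogeneousIdeal) (L : ℕ) :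
    ∃ N, L ≤ N ∧ ∃ c : ι →₀ A, (∀ i, c i = 0 ∨ (q i ≤ N * e ∧ c i ∈ 𝒜 (N * e - q i))) ∧
      h ^ N = c.sum fun i a => a * w i := by
  classical
  obtain ⟨N₀, hN₀⟩ := pow_mem_of_forall_prime 𝒜
    (Ideal.homogeneous_span 𝒜 (Set.range w) (by rintro _ ⟨i, rfl⟩; exact ⟨q i, hw i⟩)) hh he fun p hp => by
      obtain ⟨i, hi⟩ := H p hp
      exact ⟨w i, Ideal.subset_span ⟨i, rfl⟩, hi⟩
  have hN : h ^ (N₀ + L) ∈ Submodule.span A (Set.range w) := by
    rw [pow_add]; exact Ideal.mul_mem_right _ _ hN₀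
  obtain ⟨c, hc⟩ := Finsupp.mem_span_range_iff_exists_finsupp.mp hN
  let N := N₀ + L
  let f : ι → A := fun i => if q i ≤ N * e then ((decompose 𝒜 (c i) (N * e - q i) : 𝒜 _) : A) else 0
  have hf : ∀ i, c i = 0 → f i = 0 := fun i hi => by simp [f, hi]
  refine ⟨N, Nat.le_add_left L N₀, Finsupp.onFinset c.support f (fun i hi => ?_), fun i => ?_, ?_⟩
  · exact Finsupp.mem_support_iff.mpr fun h0 => hi (hf i h0)
  · rw [Finsupp.onFinset_apply]
    simp only [f]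
    split_ifs with hq
    · exact Or.inr ⟨hq, SetLike.coe_mem _⟩
    · exact Or.inl rfl
  · rw [Finsupp.onFinset_sum _ fun i => zero_mul _]
    have h1 : h ^ N = ((decompose 𝒜 (h ^ N) (N * e) : 𝒜 _) : A) :=
      (decompose_of_mem_same 𝒜 (by simpa [smul_eq_mul] using SetLike.pow_mem_graded N hh)).symm
    rw [h1, show h ^ N = ∑ i ∈ c.support, c i * w i from hc.symm, decompose_sum, DFinsupp.finsetSum_apply,
      AddSubmonoidClass.coe_finsetSum]
    refine Finset.sum_congr rfl fun i _ => ?_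
    rw [coe_decompose_mul_of_right_mem 𝒜 (N * e) (hw i)]
    simp only [f]
    split_ifs <;> simp

end GrothLib.RelTilde8
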