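import Groth.Prelude.Def_GrMod3
import Groth.Agent.Lib.Ample.Frame

/-!
# Values of sections of the structure sheaf of `Proj`
-/

set_option autoImplicit false
set_option backward.isDefEq.respectTransparency false

universe u

open AlgebraicGeometry CategoryTheory TopologicalSpace Opposite
open GrothLib.Ample (res)

noncomputable section

namespace GrothLib.RelTilde8.O

variable {A σ : Type u} [CommRing A] [SetLike σ A] [AddSubgroupClass σ A] {𝒜 : ℕ → σ} [GradedRing 𝒜]

/-- The value of a section of the structure sheaf at a point, in the localization. -/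
def ev {V : (Proj 𝒜).Opens} (y : V) (r : Γ(Proj 𝒜, V)) : GrTwist.Loc 𝒜 y.1 :=
  ((show GrTwist.O (𝒜 := 𝒜) (op V) from r).1 y).val

theorem ev_res {V W : (Proj 𝒜).Opens} (h : W ≤ V) (r : Γ(Proj 𝒜, V)) (y : W) :
    ev y (res h r) = ev ⟨y.1, h y.2⟩ r := rfl

theorem ev_pow {V : (Proj 𝒜).Opens} (r : Γ(Proj 𝒜, V)) (d : ℕ) (y : V) : ev y (r ^ d) = ev y r ^ d :=
  HomogeneousLocalization.val_pow _ _

end GrothLib.RelTilde8.O
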