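import Groth.Prelude.Def_GrMod3
import Groth.Agent.Lib.RelTilde8.Graded
import Groth.Agent.Lib.RelTilde8.O

/-!
# Sections of `M(n)~` on a basic open are single fractions
-/

universe u

set_option backward.isDefEq.respectTransparency false

open AlgebraicGeometry CategoryTheory TopologicalSpace Opposite
open GrothLib.InvExt (mres)
open GrothLib.RelTilde8.O (ev)

noncomputable section

namespace GrothLib.RelTilde8

variable {A σ : Type u} [CommRing A] [SetLike σ A] [AddSubgroupClass σ A] {𝒜 : ℕ → σ} [GradedRing 𝒜]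
variable {M τ : Type u} [AddCommGroup M] [Module A M] [SetLike τ M] [AddSubgroupClass τ M] {ℳ : ℕ → τ}
variable [SetLike.GradedSMul 𝒜 ℳ]

/-- The value of a section at a point, in the localized module. -/
def evM {n : ℤ} {V : (Proj 𝒜).Opens} (y : V) (m : Γ(_root_.GrMod.tilde 𝒜 ℳ n, V)) :
    _root_.GrMod.LocMod 𝒜 (M := M) y.1 :=
  ((show _root_.GrMod.sect 𝒜 ℳ n (op V) from m).1 y).1

theorem evM_ext {n : ℤ} {V : (Proj 𝒜).Opens} {m m' : Γ(_root_.GrMod.tilde 𝒜 ℳ n, V)}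
    (h : ∀ y, evM y m = evM y m') : m = m' :=
  Subtype.ext (funext fun y => Subtype.ext (h y))

theorem evM_zero {n : ℤ} {V : (Proj 𝒜).Opens} (y : V) :
    evM y (0 : Γ(_root_.GrMod.tilde 𝒜 ℳ n, V)) = 0 := rfl

theorem evM_add {n : ℤ} {V : (Proj 𝒜).Opens} (y : V) (m m' : Γ(_root_.GrMod.tilde 𝒜 ℳ n, V)) :
    evM y (m + m') = evM y m + evM y m' := rfl

theorem evM_mres {n : ℤ} {V W : (Proj 𝒜).Opens} (h : W ≤ V) (m : Γ(_root_.GrMod.tilde 𝒜 ℳ n, V)) (y : W) :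
    evM y (mres (_root_.GrMod.tilde 𝒜 ℳ n) h m) = evM ⟨y.1, h y.2⟩ m := rfl

theorem evM_smul {n : ℤ} {V : (Proj 𝒜).Opens} (r : Γ(Proj 𝒜, V)) (m : Γ(_root_.GrMod.tilde 𝒜 ℳ n, V)) (y : V) :
    evM y (r • m) = ev y r • evM y m :=
  _root_.GrMod.coe_smul_val n y.1 _ _

/-- One fraction `a / s` as a section of `M(n)~`. -/
def fracM {n : ℤ} {V : (Proj 𝒜).Opens} {p q : ℕ} (a : M) (s : A) (ha : a ∈ ℳ p) (hs : s ∈ 𝒜 q)
    (nin : ∀ y : V, s ∉ y.1.asHomogeneousIdeal) (hd : (p : ℤ) = q + n ∨ a = 0) :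
    Γ(_root_.GrMod.tilde 𝒜 ℳ n, V) :=
  ⟨fun y => ⟨LocalizedModule.mk a ⟨s, nin y⟩, hd.elim
      (fun h => Submodule.subset_span ⟨p, q, ⟨a, ha⟩, ⟨s, hs⟩, nin y, h, rfl⟩)
      (fun h => by rw [h, LocalizedModule.zero_mk]; exact zero_mem _)⟩,
    fun y => ⟨V, y.2, 𝟙 _, p, q, ⟨a, ha⟩, ⟨s, hs⟩, nin, hd, fun _ => rfl⟩⟩

theorem evM_fracM {n : ℤ} {V : (Proj 𝒜).Opens} {p q : ℕ} (a : M) (s : A) (ha : a ∈ ℳ p) (hs : s ∈ 𝒜 q)
    (nin : ∀ y : V, s ∉ y.1.asHomogeneousIdeal) (hd : (p : ℤ) = q + n ∨ a = 0) (y : V) :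
    evM y (fracM a s ha hs nin hd) = LocalizedModule.mk a ⟨s, nin y⟩ := rfl

omit [SetLike.GradedSMul 𝒜 ℳ] in
theorem mem_basicOpen_mul {a b : A} {p : ProjectiveSpectrum 𝒜} :
    a * b ∉ p.asHomogeneousIdeal ↔ a ∉ p.asHomogeneousIdeal ∧ b ∉ p.asHomogeneousIdeal :=
  ⟨fun h => ⟨fun ha => h (p.asHomogeneousIdeal.toIdeal.mul_mem_right _ ha),
    fun hb => h (p.asHomogeneousIdeal.toIdeal.mul_mem_left _ hb)⟩,
    fun h hm => (p.isPrime.mem_or_mem hm).elim h.1 h.2⟩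

variable [DirectSum.Decomposition ℳ]

variable (𝒜) in
/-- Near a point of `D(h)`, a section is a fraction whose denominator cuts out its domain. -/
theorem exists_local_frac {n : ℤ} {V : (Proj 𝒜).Opens} (m : Γ(_root_.GrMod.tilde 𝒜 ℳ n, V))
    {e : ℕ} {h : A} (hh : h ∈ 𝒜 e) (he : 0 < e) (x : V) (hx : h ∉ x.1.asHomogeneousIdeal) :
    ∃ (p q : ℕ) (a : M) (w : A), 0 < q ∧ a ∈ ℳ p ∧ w ∈ 𝒜 q ∧ ((p : ℤ) = q + n ∨ a = 0) ∧
      w ∉ x.1.asHomogeneousIdeal ∧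
      ∀ y : Proj 𝒜, ∀ (hy : w ∉ y.asHomogeneousIdeal), h ∉ y.asHomogeneousIdeal ∧
        ∃ hyV : y ∈ V, evM ⟨y, hyV⟩ m = LocalizedModule.mk a ⟨w, hy⟩ := by
  obtain ⟨U, hxU, iU, p, q, ⟨a, ha⟩, ⟨s, hs⟩, nin, hd, hval⟩ :=
    (show _root_.GrMod.sect 𝒜 ℳ n (op V) from m).2 x
  replace hd : (p : ℤ) = q + n ∨ a = 0 := hd
  obtain ⟨_, ⟨r, rfl⟩, hxr, hrU⟩ :=
    (ProjectiveSpectrum.isTopologicalBasis_basic_opens 𝒜).exists_subset_of_mem_open hxU U.2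
  simp only [SetLike.mem_coe, ProjectiveSpectrum.basicOpen_eq_union_of_projection 𝒜 r, Opens.mem_iSup] at hxr
  obtain ⟨i, hxi⟩ := hxr
  let r' : A := GradedRing.proj 𝒜 i r
  have hr' : r' ∈ 𝒜 i := SetLike.coe_mem _
  let w₀ : A := r' * h
  have hw₀ : w₀ ∈ 𝒜 (i + e) := SetLike.mul_mem_graded hr' hh
  have hxw₀ : w₀ ∉ x.1.asHomogeneousIdeal := mem_basicOpen_mul.mpr ⟨hxi, hx⟩
  have hU : ∀ y : Proj 𝒜, w₀ ∉ y.asHomogeneousIdeal → y ∈ U := fun y hy => hrU (by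
    show y ∈ ProjectiveSpectrum.basicOpen 𝒜 r
    rw [ProjectiveSpectrum.basicOpen_eq_union_of_projection 𝒜 r, Opens.mem_iSup]
    exact ⟨i, (mem_basicOpen_mul.mp hy).1⟩)
  obtain ⟨L, hL⟩ := pow_mem_of_forall_prime 𝒜
    (Ideal.homogeneous_span 𝒜 {s} (by rintro _ rfl; exact ⟨q, hs⟩)) hw₀ (Nat.add_pos_right i he)
    fun y hy => ⟨s, Ideal.subset_span rfl, nin ⟨y, hU y hy⟩⟩
  obtain ⟨c₀, hc₀⟩ := Ideal.mem_span_singleton'.mp (Ideal.mul_mem_left _ w₀ hL)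
  let N : ℕ := (L + 1) * (i + e)
  have hw : w₀ ^ (L + 1) ∈ 𝒜 N := by
    simpa [N, smul_eq_mul] using SetLike.pow_mem_graded (L + 1) hw₀
  have hxw : w₀ ^ (L + 1) ∉ x.1.asHomogeneousIdeal := fun hm => hxw₀ (x.1.isPrime.mem_of_pow_mem _ hm)
  have hdec : w₀ ^ (L + 1) = ((DirectSum.decompose 𝒜 (c₀ * s) N : 𝒜 N) : A) := by
    rw [hc₀, ← pow_succ', DirectSum.decompose_of_mem_same 𝒜 hw]
  classical
  rw [DirectSum.coe_decompose_mul_of_right_mem 𝒜 N hs] at hdec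
  have hqN : q ≤ N := by
    by_contra hc
    rw [if_neg hc] at hdec
    exact hxw (hdec ▸ zero_mem _)
  rw [if_pos hqN] at hdec
  let c : A := DirectSum.decompose 𝒜 c₀ (N - q)
  refine ⟨N - q + p, N, c • a, w₀ ^ (L + 1), Nat.mul_pos (Nat.succ_pos L) (Nat.add_pos_right i he),
    smul_mem (SetLike.coe_mem _) ha, hw, ?_, hxw, fun y hy => ?_⟩
  · rcases hd with hd | hd
    · left; push_cast [hqN]; omega
    · right; rw [hd, smul_zero]
  · have hy₀ : w₀ ∉ y.asHomogeneousIdeal := fun hm => hy (y.asHomogeneousIdeal.toIdeal.pow_mem_of_mem hm _ (Nat.succ_pos L))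
    refine ⟨(mem_basicOpen_mul.mp hy₀).2, leOfHom iU (hU y hy₀), ?_⟩
    refine (hval ⟨y, hU y hy₀⟩).trans ?_
    refine LocalizedModule.mk_eq.mpr ⟨1, ?_⟩
    simp only [one_smul, Submonoid.smul_def, hdec, mul_smul]
    exact smul_comm _ _ _

variable (𝒜) in
/-- Two fractions agreeing on `D(h)` agree after multiplication by a power of `h`. -/
theorem exists_pow_smul_eq {e p q p' q' : ℕ} {h : A} (hh : h ∈ 𝒜 e) (he : 0 < e) {n : ℤ}
    {a a' : M} {w w' : A} (ha : a ∈ ℳ p) (ha' : a' ∈ ℳ p') (hw : w ∈ 𝒜 q) (hw' : w' ∈ 𝒜 q')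
    (hd : (p : ℤ) = q + n ∨ a = 0) (hd' : (p' : ℤ) = q' + n ∨ a' = 0)
    (H : ∀ y : ProjectiveSpectrum 𝒜, h ∉ y.asHomogeneousIdeal →
      ∃ u : A, u ∉ y.asHomogeneousIdeal ∧ u • w' • a = u • w • a') :
    ∃ N : ℕ, h ^ N • w' • a = h ^ N • w • a' := by
  obtain ⟨t, ht⟩ : ∃ t, w' • a - w • a' ∈ ℳ t := by
    rcases hd with hd | hd
    · rcases hd' with hd' | hd'
      · refine ⟨q' + p, sub_mem (smul_mem hw' ha) ?_⟩
        rw [show q' + p = q + p' by omega]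
        exact smul_mem hw ha'
      · exact ⟨q' + p, by rw [hd', smul_zero, sub_zero]; exact smul_mem hw' ha⟩
    · exact ⟨q + p', by rw [hd, smul_zero, zero_sub]; exact neg_mem (smul_mem hw ha')⟩
  obtain ⟨N, hN⟩ := exists_pow_smul_eq_zero 𝒜 hh he ht fun y hy => by
    obtain ⟨u, hu, hu'⟩ := H y hy
    exact ⟨u, hu, by rw [smul_sub, hu', sub_self]⟩
  exact ⟨N, by rwa [smul_sub, sub_eq_zero] at hN⟩

variable (𝒜) in
/-- A section over `D(h)` is one fraction `a / h ^ k`. -/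
theorem exists_frac {n : ℤ} {e : ℕ} {h : A} (hh : h ∈ 𝒜 e) (he : 0 < e)
    (m : Γ(_root_.GrMod.tilde 𝒜 ℳ n, Proj.basicOpen 𝒜 h)) :
    ∃ k : ℕ, 0 ≤ ((k * e : ℕ) : ℤ) + n ∧ ∃ (p : ℕ) (a : M), (p : ℤ) = (k * e : ℕ) + n ∧ a ∈ ℳ p ∧
      ∀ y : Proj.basicOpen 𝒜 h, evM y m =
        LocalizedModule.mk a (⟨h ^ k, fun hm => y.2 (y.1.isPrime.mem_of_pow_mem k hm)⟩ :
          y.1.asHomogeneousIdeal.toIdeal.primeCompl) := by
  classical
  choose p q a w hq ha hw hd hxw hloc using fun x : Proj.basicOpen 𝒜 h => exists_local_frac 𝒜 m hh he x x.2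
  obtain ⟨N₀, -, c₀, hc₀, hsum⟩ := exists_homogeneous_combination 𝒜 w q hw hh he (fun y hy => ⟨(⟨y, hy⟩ : Proj.basicOpen 𝒜 h), hxw (⟨y, hy⟩ : Proj.basicOpen 𝒜 h)⟩) 0
  have hcov : ∀ y : Proj 𝒜, h ∉ y.asHomogeneousIdeal → ∃ i ∈ c₀.support, w i ∉ y.asHomogeneousIdeal := by
    intro y hy
    by_contra hc
    push_neg at hc
    refine hy (y.isPrime.mem_of_pow_mem N₀ ?_)
    rw [hsum]
    exact Ideal.sum_mem _ fun i hi => Ideal.mul_mem_left _ _ (hc i hi)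
  have hker : ∀ ij : c₀.support × c₀.support, ∃ N : ℕ,
      (w ij.1 * w ij.2) ^ N • w ij.2 • a ij.1 = (w ij.1 * w ij.2) ^ N • w ij.1 • a ij.2 := by
    intro ij
    refine exists_pow_smul_eq 𝒜 (SetLike.mul_mem_graded (hw _) (hw _)) (Nat.add_pos_left (hq _) _) (ha _) (ha _)
      (hw _) (hw _) (hd _) (hd _) fun y hy => ?_
    obtain ⟨h1, h2⟩ := mem_basicOpen_mul.mp hy
    obtain ⟨-, _, e1⟩ := hloc _ y h1
    obtain ⟨-, _, e2⟩ := hloc _ y h2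
    obtain ⟨⟨u, hu⟩, hu'⟩ := LocalizedModule.mk_eq.mp (e1.symm.trans e2)
    exact ⟨u, hu, hu'⟩
  choose Nij hNij using hker
  obtain ⟨N, hN⟩ : ∃ N, ∀ ij, Nij ij ≤ N := ⟨Finset.univ.sup Nij, fun ij => Finset.le_sup (Finset.mem_univ ij)⟩
  have hker' : ∀ i j : c₀.support,
      (w i * w j) ^ N • w j • a i = (w i * w j) ^ N • w i • a j := by
    intro i j
    obtain ⟨d, hd'⟩ := Nat.exists_eq_add_of_le (hN (i, j))
    rw [hd', add_comm, pow_add, mul_smul, mul_smul]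
    exact congrArg _ (hNij (i, j))
  have hw' : ∀ i : c₀.support, w i ^ (N + 1) ∈ 𝒜 ((N + 1) * q i) := fun i => by
    simpa [smul_eq_mul] using SetLike.pow_mem_graded (N + 1) (hw i)
  obtain ⟨k, hk, c, hc, hksum⟩ := exists_homogeneous_combination 𝒜 (fun i : c₀.support => w i ^ (N + 1))
    (fun i => (N + 1) * q i) hw' hh he (fun y hy => by
      obtain ⟨i, hi, hwi⟩ := hcov y hy
      exact ⟨⟨i, hi⟩, fun hm => hwi (y.isPrime.mem_of_pow_mem _ hm)⟩) n.natAbs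
  have hke : 0 ≤ ((k * e : ℕ) : ℤ) + n := by
    have : k ≤ k * e := Nat.le_mul_of_pos_right k he
    omega
  obtain ⟨P, hP⟩ := Int.eq_ofNat_of_zero_le hke
  let b : M := c.sum fun i x => x • w i ^ N • a i
  have hb : b ∈ ℳ P := sum_mem fun i _ => by
    rcases hc i with hci | ⟨hqi, hci⟩
    · simp only [hci, zero_smul]; exact zero_mem _
    · rcases hd i with hdi | hdi
      · have h1 : w i ^ N ∈ 𝒜 (N * q i) := by simpa [smul_eq_mul] using SetLike.pow_mem_graded N (hw i)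
        have h2 := smul_mem (ℳ := ℳ) hci (smul_mem h1 (ha i))
        rwa [show P = k * e - (N + 1) * q i + (N * q i + p i) by
          have h3 : ((N : ℤ) + 1) * q i = N * q i + q i := by ring
          zify [hqi]
          push_cast at hP ⊢
          omega]
      · simp only [hdi, smul_zero]; exact zero_mem _
  refine ⟨k, hke, P, b, hP.symm, hb, fun y => ?_⟩
  obtain ⟨j, hj, hwj⟩ := hcov y.1 y.2
  obtain ⟨-, _, ej⟩ := hloc j y.1 hwj
  refine ej.trans ?_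
  refine LocalizedModule.mk_eq.mpr ⟨⟨w j ^ N, fun hm => hwj (y.1.isPrime.mem_of_pow_mem _ hm)⟩, ?_⟩
  show w j ^ N • h ^ k • a j = w j ^ N • w j • b
  rw [hksum]
  simp only [b, Finsupp.sum, Finset.sum_smul, Finset.smul_sum, ← mul_smul]
  refine Finset.sum_congr rfl fun i _ => ?_
  have h1 := congrArg (fun t => c i • t) (hker' i ⟨j, hj⟩)
  simp only [← mul_smul] at h1
  refine (Eq.trans ?_ h1.symm).trans ?_ <;> (congr 1; ring)

variable (𝒜) in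
/-- A fraction vanishing on `D(h)` is killed by a power of `h`. -/
theorem exists_pow_smul_eq_zero_of_mk {e p : ℕ} {h : A} (hh : h ∈ 𝒜 e) (he : 0 < e) {a : M} (ha : a ∈ ℳ p)
    (H : ∀ y : ProjectiveSpectrum 𝒜, h ∉ y.asHomogeneousIdeal →
      ∃ s : y.asHomogeneousIdeal.toIdeal.primeCompl, LocalizedModule.mk a s = 0) :
    ∃ N : ℕ, h ^ N • a = 0 :=
  exists_pow_smul_eq_zero 𝒜 hh he ha fun y hy => by
    obtain ⟨s, hs⟩ := H y hy
    rw [← LocalizedModule.zero_mk (1 : y.asHomogeneousIdeal.toIdeal.primeCompl)] at hs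
    obtain ⟨u, hu⟩ := LocalizedModule.mk_eq.mp hs
    exact ⟨u.1, u.2, by simpa [Submonoid.smul_def] using hu⟩

end GrothLib.RelTilde8
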