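import Groth.Agent.Lib.RelTilde8.Sections
import Groth.Agent.Lib.QCoh.Affine

/-!
# Quasi-coherence of `M(n)~`
-/

universe u

set_option backward.isDefEq.respectTransparency false

open AlgebraicGeometry CategoryTheory TopologicalSpace Opposite
open GrothLib.InvExt (mres)
open GrothLib.Ample (res)
open GrothLib.RelTilde8.O (ev)

noncomputable section

namespace GrothLib.RelTilde8

variable {A σ : Type u} [CommRing A] [SetLike σ A] [AddSubgroupClass σ A] {𝒜 : ℕ → σ} [GradedRing 𝒜]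

theorem iSup_basicOpen_pos :
    ⨆ (df : Σ d : {d : ℕ // 0 < d}, 𝒜 d.1), Proj.basicOpen 𝒜 (df.2 : A) = ⊤ := by
  refine top_le_iff.mp fun p _ => ?_
  by_contra hc
  simp only [Opens.mem_iSup, not_exists] at hc
  refine p.not_irrelevant_le fun a ha => ?_
  have hmem : ∀ i, GradedRing.proj 𝒜 i a ∈ p.asHomogeneousIdeal.toIdeal := fun i => by
    rcases Nat.eq_zero_or_pos i with rfl | hi
    · rw [(HomogeneousIdeal.mem_irrelevant_iff 𝒜 a).mp ha]; exact zero_mem _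
    · exact not_not.mp (hc ⟨⟨i, hi⟩, ⟨GradedRing.proj 𝒜 i a, SetLike.coe_mem _⟩⟩)
  classical
  rw [← DirectSum.sum_support_decompose 𝒜 a]
  exact Submodule.sum_mem _ fun i _ => hmem i

/-- Sections of the structure sheaf on `D(f)` are fractions. -/
theorem exists_ev_eq {e : ℕ} {f : A} (hf : f ∈ 𝒜 e) (he : 0 < e) (g : Γ(Proj 𝒜, Proj.basicOpen 𝒜 f)) :
    ∃ (k : ℕ) (b : A), b ∈ 𝒜 (k • e) ∧ ∀ y : Proj.basicOpen 𝒜 f,
      ev y g = Localization.mk b (⟨f ^ k, fun hm => y.2 (y.1.isPrime.mem_of_pow_mem k hm)⟩ :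
        y.1.asHomogeneousIdeal.toIdeal.primeCompl) := by
  obtain ⟨z, rfl⟩ := (ConcreteCategory.bijective_of_isIso (Proj.basicOpenIsoAway 𝒜 f hf he).hom).2 g
  obtain ⟨k, b, hb, rfl⟩ := HomogeneousLocalization.Away.mk_surjective 𝒜 hf z
  refine ⟨k, b, hb, fun y => ?_⟩
  refine (ProjectiveSpectrum.Proj.awayToSection_apply _ _ _ _).trans ?_
  rw [HomogeneousLocalization.Away.val_mk, Localization.mk_eq_mk', IsLocalization.map_mk',
    Localization.mk_eq_mk']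
  rfl

theorem le_basicOpen_of_ev {e : ℕ} {f : A} (g : Γ(Proj 𝒜, Proj.basicOpen 𝒜 f)) {k : ℕ} {b : A}
    (hb : b ∈ 𝒜 (k • e)) (hf : f ∈ 𝒜 e) (hev : ∀ y : Proj.basicOpen 𝒜 f,
      ev y g = Localization.mk b (⟨f ^ k, fun hm => y.2 (y.1.isPrime.mem_of_pow_mem k hm)⟩ :
        y.1.asHomogeneousIdeal.toIdeal.primeCompl)) :
    (Proj 𝒜).basicOpen g = Proj.basicOpen 𝒜 (f * b) := by
  have hle : Proj.basicOpen 𝒜 (f * b) ≤ Proj.basicOpen 𝒜 f := Proj.basicOpen_mul 𝒜 f b ▸ inf_le_left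
  refine le_antisymm (fun y hy => ?_) fun y hy => ?_
  · have hyf : f ∉ y.asHomogeneousIdeal := (Proj 𝒜).basicOpen_le g hy
    refine mem_basicOpen_mul.mpr ⟨hyf, fun hbm => ?_⟩
    rw [Scheme.mem_basicOpen _ _ y hyf] at hy
    have h2 := hy.map (Proj.stalkIso' 𝒜 y).toRingHom
    erw [Proj.stalkIso'_germ] at h2
    have h3 : IsUnit (ev (⟨y, hyf⟩ : Proj.basicOpen 𝒜 f) g) :=
      h2.map (algebraMap (HomogeneousLocalization.AtPrime 𝒜 y.asHomogeneousIdeal.toIdeal) _)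
    rw [hev, Localization.mk_eq_mk', IsLocalization.AtPrime.isUnit_mk'_iff] at h3
    exact h3 hbm
  · obtain ⟨hyf, hyb⟩ := mem_basicOpen_mul.mp hy
    rw [Scheme.mem_basicOpen _ _ y hyf]
    have h3 : IsUnit (ev (⟨y, hyf⟩ : Proj.basicOpen 𝒜 f) g) := by
      rw [hev, Localization.mk_eq_mk', IsLocalization.AtPrime.isUnit_mk'_iff]
      exact hyb
    have h4 : IsUnit ((Proj.stalkIso' 𝒜 y) ((Proj 𝒜).presheaf.germ _ y hyf g)) := by
      erw [Proj.stalkIso'_germ]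
      exact (HomogeneousLocalization.isUnit_iff_isUnit_val _ _ _).mp h3
    exact (isUnit_map_iff (Proj.stalkIso' 𝒜 y) _).mp h4

variable {M τ : Type u} [AddCommGroup M] [Module A M] [SetLike τ M] [AddSubgroupClass τ M] {ℳ : ℕ → τ}
variable [DirectSum.Decomposition ℳ] [SetLike.GradedSMul 𝒜 ℳ]

theorem smulLift_smulSep {n : ℤ} {e : ℕ} {f : A} (hf : f ∈ 𝒜 e) (he : 0 < e)
    (g : Γ(Proj 𝒜, Proj.basicOpen 𝒜 f)) :
    QCoh.SmulLift (_root_.GrMod.tilde 𝒜 ℳ n) g ∧ QCoh.SmulSep (_root_.GrMod.tilde 𝒜 ℳ n) g := by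
  obtain ⟨k, b, hb, hev⟩ := exists_ev_eq hf he g
  have heq := le_basicOpen_of_ev g hb hf hev
  have hfb : f * b ∈ 𝒜 (e + k • e) := SetLike.mul_mem_graded hf hb
  have hev' : ∀ (N : ℕ) (y : Proj.basicOpen 𝒜 f), ev y (g ^ N) = Localization.mk (b ^ N)
      (⟨(f ^ k) ^ N, fun hm => y.2 (y.1.isPrime.mem_of_pow_mem k (y.1.isPrime.mem_of_pow_mem N hm))⟩ :
        y.1.asHomogeneousIdeal.toIdeal.primeCompl) := fun N y => by
    rw [O.ev_pow, hev y, Localization.mk_pow]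
    rfl
  have hle : Proj.basicOpen 𝒜 (f * b) ≤ Proj.basicOpen 𝒜 f := heq ▸ (Proj 𝒜).basicOpen_le g
  constructor
  · intro s
    obtain ⟨L, -, p, a, hp, ha, hval⟩ :=
      exists_frac 𝒜 hfb (Nat.add_pos_left he _) (mres (_root_.GrMod.tilde 𝒜 ℳ n) heq.ge s)
    have hden : f ^ (L * (1 + k)) ∈ 𝒜 (L * (e + k • e)) := by
      have := SetLike.pow_mem_graded (L * (1 + k)) hf
      simp only [smul_eq_mul] at this ⊢
      convert this using 2; ring
    refine ⟨L, fracM (n := n) (V := Proj.basicOpen 𝒜 f) a (f ^ (L * (1 + k))) ha hden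
      (fun y hm => y.2 (y.1.isPrime.mem_of_pow_mem _ hm)) (Or.inl hp), ?_⟩
    refine evM_ext fun y => ?_
    have hy : y.1 ∈ Proj.basicOpen 𝒜 (f * b) := heq ▸ y.2
    change evM y (mres (_root_.GrMod.tilde 𝒜 ℳ n) ((Proj 𝒜).basicOpen_le g) _) =
      evM y (res ((Proj 𝒜).basicOpen_le g) g ^ L • s)
    rw [← map_pow, evM_mres, evM_fracM, evM_smul, O.ev_res, hev',
      show evM y s = _ from hval ⟨y.1, hy⟩, LocalizedModule.mk_smul_mk]
    refine LocalizedModule.mk_eq.mpr ⟨1, ?_⟩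
    simp only [one_smul, Submonoid.smul_def, Submonoid.coe_mul, ← mul_smul]
    congr 1
    ring
  · intro t ht
    obtain ⟨L, -, p, a, hp, ha, hval⟩ := exists_frac 𝒜 hf he t
    obtain ⟨N, hN⟩ := exists_pow_smul_eq_zero_of_mk 𝒜 hfb (Nat.add_pos_left he _) ha fun y hy => by
      have h1 := congrArg (evM (⟨y, heq.ge hy⟩ : (Proj 𝒜).basicOpen g)) ht
      exact ⟨_, (hval ⟨y, hle hy⟩).symm.trans h1⟩
    refine ⟨N, evM_ext fun y => ?_⟩
    rw [evM_smul, hev', hval, evM_zero, LocalizedModule.mk_smul_mk,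
      ← LocalizedModule.zero_mk (1 : y.1.asHomogeneousIdeal.toIdeal.primeCompl)]
    refine LocalizedModule.mk_eq.mpr ⟨⟨f ^ N, fun hm => y.2 (y.1.isPrime.mem_of_pow_mem _ hm)⟩, ?_⟩
    simp only [one_smul, Submonoid.smul_def, smul_zero, ← mul_smul, ← mul_pow, hN]

/-- `M(n)~` is quasi-coherent. -/
theorem isQuasicoherent_tilde (n : ℤ) : (_root_.GrMod.tilde 𝒜 ℳ n).IsQuasicoherent :=
  QCoh.isQuasicoherent_of_smulLift_of_smulSep _
    (fun df : Σ d : {d : ℕ // 0 < d}, 𝒜 d.1 => Proj.basicOpen 𝒜 (df.2 : A))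
    iSup_basicOpen_pos (fun df => Proj.isAffineOpen_basicOpen 𝒜 _ df.2.2 df.1.2)
    fun df g => smulLift_smulSep df.2.2 df.1.2 g

end GrothLib.RelTilde8

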