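import Groth.Prelude.Def_RelProj3
import Groth.Agent.Lib.RelTilde8.QCoh
import Groth.Agent.Lib.RelProjK.Away

/-!
# When the comparison `M(n)~ → Φ_* N(n)~` is bijective on sections
-/

set_option autoImplicit false
set_option backward.isDefEq.respectTransparency false

universe u

open AlgebraicGeometry CategoryTheory TopologicalSpace Opposite
open GrothLib.InvExt (mres)
open scoped HomogeneousIdeal

noncomputable section

namespace GrothLib.RelTilde8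

variable {A σ : Type u} [CommRing A] [SetLike σ A] [AddSubgroupClass σ A] {𝒜 : ℕ → σ} [GradedRing 𝒜]
variable {M τ : Type u} [AddCommGroup M] [Module A M] [SetLike τ M] [AddSubgroupClass τ M] {ℳ : ℕ → τ}
  [SetLike.GradedSMul 𝒜 ℳ] [DirectSum.Decomposition ℳ]
variable {B σ' : Type u} [CommRing B] [SetLike σ' B] [AddSubgroupClass σ' B] {ℬ : ℕ → σ'} [GradedRing ℬ]
variable {N τ' : Type u} [AddCommGroup N] [Module B N] [SetLike τ' N] [AddSubgroupClass τ' N] {𝒩 : ℕ → τ'}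
  [SetLike.GradedSMul ℬ 𝒩] [DirectSum.Decomposition 𝒩]
variable (ψ : 𝒜 →+*ᵍ ℬ) (hψ : ℬ₊ ≤ (𝒜₊).map ψ) (v : M →ₛₗ[ψ.toRingHom] N)
  (hv : ∀ (i : ℕ) (m : M), m ∈ ℳ i → v m ∈ 𝒩 i)

omit [AddSubgroupClass τ M] [SetLike.GradedSMul 𝒜 ℳ] [AddSubgroupClass τ' N] [SetLike.GradedSMul ℬ 𝒩]
  [DirectSum.Decomposition ℳ] [DirectSum.Decomposition 𝒩] in
theorem map_smul_pow (f : A) (k : ℕ) (m : M) : v (f ^ k • m) = ψ f ^ k • v m :=
  (LinearMap.map_smulₛₗ v _ _).trans (congrArg (· • v m) (map_pow ψ f k))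

include hv in
theorem map_decompose (m : M) (i : ℕ) :
    v (DirectSum.decompose ℳ m i : M) = (DirectSum.decompose 𝒩 (v m) i : N) := by
  classical
  refine DirectSum.Decomposition.inductionOn ℳ (motive := fun m : M =>
    v (DirectSum.decompose ℳ m i : M) = (DirectSum.decompose 𝒩 (v m) i : N)) ?_ ?_ ?_ m
  · simp
  · intro k b
    rcases eq_or_ne k i with rfl | hk
    · rw [DirectSum.decompose_of_mem_same ℳ b.2, DirectSum.decompose_of_mem_same 𝒩 (hv k b b.2)]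
    · rw [DirectSum.decompose_of_mem_ne ℳ b.2 hk, DirectSum.decompose_of_mem_ne 𝒩 (hv k b b.2) hk, map_zero]
  · intro x y hx hy
    simp only [DirectSum.decompose_add, DirectSum.add_apply, AddMemClass.coe_add, map_add, hx, hy]

/-- `v` is bijective on the homogeneous fractions with denominators powers of `f`. -/
structure IsFracBij (ℳ : ℕ → τ) (𝒩 : ℕ → τ') (d : ℕ) (f : A) : Prop where
  surj : ∀ (i : ℕ) (m' : N), m' ∈ 𝒩 i → ∃ (k : ℕ) (m : M), m ∈ ℳ (i + k * d) ∧ v m = ψ f ^ k • m'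
  inj : ∀ (i : ℕ) (m : M), m ∈ ℳ i → v m = 0 → ∃ k : ℕ, f ^ k • m = 0

theorem eq_zero_of_comapApp_eq_zero (n : ℤ) (U : Opens (ProjectiveSpectrum.top 𝒜))
    (V : Opens (ProjectiveSpectrum.top ℬ)) (hUV : ∀ y : ProjectiveSpectrum ℬ, y ∈ V ↔ ProjectiveSpectrum.comap ψ hψ y ∈ U)
    (H : ∀ x ∈ U, ∃ (d : ℕ) (f : A), 0 < d ∧ f ∈ 𝒜 d ∧ f ∉ x.asHomogeneousIdeal ∧ IsFracBij ψ v ℳ 𝒩 d f)
    (s : GrMod.sect 𝒜 ℳ n (op U))
    (hs : GrMod.comapApp ψ hψ v hv n U V (fun y hy => (hUV y).mp hy) s = 0) : s = 0 := by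
  refine evM_ext fun x => ?_
  obtain ⟨d, f, hd, hf, hfx, hbij⟩ := H x.1 x.2
  obtain ⟨p, q, a, w, hq, ha, hw, -, hwx, hval⟩ := exists_local_frac 𝒜 (V := U) s hf hd x hfx
  obtain ⟨N₀, hN₀⟩ := exists_pow_smul_eq_zero_of_mk ℬ (ψ.map_mem hw) hq (hv p a ha) fun y hy => by
    obtain ⟨-, hyU, hy'⟩ := hval (ProjectiveSpectrum.comap ψ hψ y) hy
    refine ⟨⟨ψ w, hy⟩, ?_⟩
    have e : (((GrMod.comapApp ψ hψ v hv n U V (fun y hy => (hUV y).mp hy) s).1 ⟨y, (hUV y).mpr hyU⟩ :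
        GrMod.tildeAt ℬ 𝒩 n y) : GrMod.LocMod ℬ (M := N) y) = 0 := by rw [hs]; rfl
    refine Eq.trans ?_ e
    refine Eq.trans ?_ (congrArg (GrMod.locModMap ψ hψ v y) hy'.symm)
    exact (GrMod.locModMap_mk ψ hψ v y a ⟨w, hy⟩).symm
  have hpw : w ^ N₀ • a ∈ ℳ (N₀ * q + p) := smul_mem (by simpa [smul_eq_mul] using SetLike.pow_mem_graded N₀ hw) ha
  obtain ⟨k, hk⟩ := hbij.inj _ _ hpw ((map_smul_pow ψ v w N₀ a).trans hN₀)
  obtain ⟨-, _, hx'⟩ := hval x.1 hwx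
  refine hx'.trans ?_
  rw [evM_zero, ← LocalizedModule.zero_mk (1 : x.1.asHomogeneousIdeal.toIdeal.primeCompl)]
  refine LocalizedModule.mk_eq.mpr ⟨⟨f ^ k * w ^ N₀, fun hm => (x.1.isPrime.mem_or_mem hm).elim
    (fun h => hfx (x.1.isPrime.mem_of_pow_mem _ h)) fun h => hwx (x.1.isPrime.mem_of_pow_mem _ h)⟩, ?_⟩
  simp only [Submonoid.smul_def, smul_zero, OneMemClass.coe_one, one_smul, mul_smul, hk]

/-- **The comparison is bijective on sections where `v` is bijective on fractions.** -/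
theorem bijective_comapApp (n : ℤ) (U : (Proj 𝒜).Opens) (V : (Proj ℬ).Opens)
    (hUV : ∀ y : ProjectiveSpectrum ℬ, y ∈ V ↔ ProjectiveSpectrum.comap ψ hψ y ∈ U)
    (H : ∀ x ∈ U, ∃ (d : ℕ) (f : A), 0 < d ∧ f ∈ 𝒜 d ∧ f ∉ x.asHomogeneousIdeal ∧ IsFracBij ψ v ℳ 𝒩 d f) :
    Function.Bijective (GrMod.comapApp ψ hψ v hv n U V (fun y hy => (hUV y).mp hy)) := by
  let T : TopCat.Sheaf AddCommGrpCat.{u} (Proj 𝒜).carrier :=
    ⟨(GrMod.tilde 𝒜 ℳ n).presheaf, (GrMod.tilde 𝒜 ℳ n).isSheaf⟩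
  have hinj : ∀ (U' : Opens (ProjectiveSpectrum.top 𝒜)) (V' : Opens (ProjectiveSpectrum.top ℬ))
      (hUV' : ∀ y : ProjectiveSpectrum ℬ, y ∈ V' ↔ ProjectiveSpectrum.comap ψ hψ y ∈ U') (_ : U' ≤ U),
      Function.Injective (GrMod.comapApp ψ hψ v hv n U' V' (fun y hy => (hUV' y).mp hy)) :=
    fun U' V' hUV' hle => (injective_iff_map_eq_zero _).mpr fun s hs =>
      eq_zero_of_comapApp_eq_zero ψ hψ v hv n U' V' hUV' (fun x hx => H x (hle hx)) s hs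
  refine ⟨hinj U V hUV le_rfl, fun t => ?_⟩
  have hloc : ∀ x : U, ∃ (e : ℕ) (w : A) (sw : Γ(GrMod.tilde 𝒜 ℳ n, Proj.basicOpen 𝒜 w)),
      w ∈ 𝒜 e ∧ x.1 ∈ Proj.basicOpen 𝒜 w ∧ Proj.basicOpen 𝒜 w ≤ U ∧
        ∀ (y : ProjectiveSpectrum ℬ) (hy : y ∈ V) (hyw : ψ w ∉ y.asHomogeneousIdeal),
          GrMod.locModMap ψ hψ v y (evM ⟨ProjectiveSpectrum.comap ψ hψ y, hyw⟩ sw) = evM (V := V) ⟨y, hy⟩ t := by
    intro x
    obtain ⟨d, f, hd, hf, hfx, hbij⟩ := H x.1 x.2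
    obtain ⟨_, e, _, w, he, _, hw, _, hxw, hwU⟩ :=
      exists_local_frac 𝒜 (V := U) (0 : Γ(GrMod.tilde 𝒜 ℳ n, U)) hf hd x hfx
    have hle : Proj.basicOpen 𝒜 w ≤ U := fun y hy => (hwU y hy).2.1
    have hleV : Proj.basicOpen ℬ (ψ w) ≤ V := fun y hy =>
      (hUV y).mpr (hle (show ProjectiveSpectrum.comap ψ hψ y ∈ Proj.basicOpen 𝒜 w from hy))
    obtain ⟨K, -, P, b, hP, hb, htw⟩ :=
      exists_frac ℬ (ψ.map_mem hw) he (mres (GrMod.tilde ℬ 𝒩 n) hleV t)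
    obtain ⟨k, m, hm, hvm⟩ := hbij.surj P b hb
    have hden : f ^ k * w ^ K ∈ 𝒜 (k * d + K * e) := SetLike.mul_mem_graded
      (by simpa [smul_eq_mul] using SetLike.pow_mem_graded k hf) (by simpa [smul_eq_mul] using SetLike.pow_mem_graded K hw)
    have nin : ∀ y : Proj.basicOpen 𝒜 w, f ^ k * w ^ K ∉ y.1.asHomogeneousIdeal := fun y hm =>
      (y.1.isPrime.mem_or_mem hm).elim (fun h => (hwU y.1 y.2).1 (y.1.isPrime.mem_of_pow_mem _ h))
        fun h => y.2 (y.1.isPrime.mem_of_pow_mem _ h)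
    refine ⟨e, w, fracM (n := n) m (f ^ k * w ^ K) hm hden nin (Or.inl (by push_cast at hP ⊢; omega)), hw, hxw, hle,
      fun y hy hyw => ?_⟩
    rw [evM_fracM, GrMod.locModMap_mk]
    refine Eq.trans ?_ (htw ⟨y, hyw⟩).symm
    refine LocalizedModule.mk_eq.mpr ⟨1, ?_⟩
    simp only [Submonoid.smul_def, OneMemClass.coe_one, one_smul, hvm, ← mul_smul, map_mul, map_pow]
    congr 1
    exact mul_comm _ _
  choose e w sw hw hxw hle hsw using hloc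
  obtain ⟨s, hs, -⟩ := TopCat.Sheaf.existsUnique_gluing' T (fun x : U => Proj.basicOpen 𝒜 (w x)) U
    (fun x => homOfLE (hle x)) (fun x hx => Opens.mem_iSup.mpr ⟨⟨x, hx⟩, hxw ⟨x, hx⟩⟩) sw fun x x' => by
      let U' := Proj.basicOpen 𝒜 (w x) ⊓ Proj.basicOpen 𝒜 (w x')
      let V' := Proj.basicOpen ℬ (ψ (w x)) ⊓ Proj.basicOpen ℬ (ψ (w x'))
      refine hinj U' V' (fun _ => Iff.rfl) (inf_le_left.trans (hle x)) ?_
      refine evM_ext (V := V') fun y => ?_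
      exact (hsw x y.1 ((hUV y.1).mpr (hle x y.2.1)) y.2.1).trans (hsw x' y.1 ((hUV y.1).mpr (hle x y.2.1)) y.2.2).symm
  refine ⟨s, evM_ext (V := V) fun y => ?_⟩
  obtain ⟨x, hx⟩ : ∃ x : U, ψ (w x) ∉ y.1.asHomogeneousIdeal :=
    ⟨⟨_, (hUV y.1).mp y.2⟩, hxw ⟨_, (hUV y.1).mp y.2⟩⟩
  refine Eq.trans ?_ (hsw x y.1 y.2 hx)
  exact congrArg (fun r => GrMod.locModMap ψ hψ v y.1 (evM (V := Proj.basicOpen 𝒜 (w x))
    ⟨ProjectiveSpectrum.comap ψ hψ y.1, hx⟩ r)) (hs x)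

include hv in
/-- A localization at an element of degree zero is bijective on fractions. -/
theorem isFracBij_of_localization {c : A} (hc : c ∈ 𝒜 0) (hsurj : ∀ m' : N, ∃ (k : ℕ) (m : M), v m = ψ c ^ k • m')
    (hinj : ∀ m : M, v m = 0 → ∃ k : ℕ, c ^ k • m = 0) {d : ℕ} {f : A} (hf : f ∈ 𝒜 d) :
    IsFracBij ψ v ℳ 𝒩 d (c * f) where
  surj i m' hm' := by
    obtain ⟨k, m, hm⟩ := hsurj m'
    have hfk : f ^ k ∈ 𝒜 (k * d) := by simpa [smul_eq_mul] using SetLike.pow_mem_graded k hf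
    refine ⟨k, f ^ k • (DirectSum.decompose ℳ m i : M), ?_, ?_⟩
    · rw [add_comm i]; exact smul_mem hfk (SetLike.coe_mem _)
    · rw [map_smul_pow ψ v, map_decompose ψ v hv, hm]
      have h0 : ψ c ^ k ∈ ℬ 0 := by simpa using SetLike.pow_mem_graded k (ψ.map_mem hc)
      rw [DirectSum.decompose_of_mem_same 𝒩 (show ψ c ^ k • m' ∈ 𝒩 i by simpa using smul_mem h0 hm'),
        map_mul, mul_pow, ← mul_smul, mul_comm]
  inj i m _ h := by
    obtain ⟨k, hk⟩ := hinj m h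
    exact ⟨k, by rw [mul_pow, mul_comm, mul_smul, hk, smul_zero]⟩

include hv in
/-- A bijection is bijective on fractions. -/
theorem isFracBij_of_bijective (hbij : Function.Bijective v) {d : ℕ} {f : A} : IsFracBij ψ v ℳ 𝒩 d f where
  surj i m' hm' := by
    obtain ⟨m, rfl⟩ := hbij.2 m'
    refine ⟨0, DirectSum.decompose ℳ m i, by simp, ?_⟩
    rw [map_decompose ψ v hv, DirectSum.decompose_of_mem_same 𝒩 hm', pow_zero, one_smul]
  inj _ m _ h := ⟨0, by rw [pow_zero, one_smul]; exact hbij.1 (by rw [h, map_zero])⟩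

theorem exists_pos_notMem (x : ProjectiveSpectrum 𝒜) :
    ∃ (d : ℕ) (f : A), 0 < d ∧ f ∈ 𝒜 d ∧ f ∉ x.asHomogeneousIdeal := by
  by_contra! h
  refine x.not_irrelevant_le ?_
  rw [HomogeneousIdeal.irrelevant_le]
  exact fun i hi a ha => h i a hi ha

theorem bijective_comapApp_of_localization {c : A} (hc : c ∈ 𝒜 0)
    (hsurj : ∀ m' : N, ∃ (k : ℕ) (m : M), v m = ψ c ^ k • m') (hinj : ∀ m : M, v m = 0 → ∃ k : ℕ, c ^ k • m = 0)
    (n : ℤ) (U : (Proj 𝒜).Opens) (V : (Proj ℬ).Opens)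
    (hUV : ∀ y : ProjectiveSpectrum ℬ, y ∈ V ↔ ProjectiveSpectrum.comap ψ hψ y ∈ U)
    (hU : ∀ x ∈ U, c ∉ x.asHomogeneousIdeal) :
    Function.Bijective (GrMod.comapApp ψ hψ v hv n U V (fun y hy => (hUV y).mp hy)) :=
  bijective_comapApp ψ hψ v hv n U V hUV fun x hx => by
    obtain ⟨d, f, hd, hf, hfx⟩ := exists_pos_notMem (𝒜 := 𝒜) x
    exact ⟨d, c * f, hd, by simpa using SetLike.mul_mem_graded hc hf,
      mem_basicOpen_mul.mpr ⟨hU x hx, hfx⟩, isFracBij_of_localization ψ v hv hc hsurj hinj hf⟩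

theorem isIso_comap_of_bijective (hbij : Function.Bijective v) (n : ℤ) : IsIso (GrMod.comap ψ hψ v hv n) := by
  refine Scheme.Modules.Hom.isIso_iff_isIso_app.mpr fun U => (ConcreteCategory.isIso_iff_bijective _).mpr ?_
  exact bijective_comapApp ψ hψ v hv n U (Proj.map ψ hψ ⁻¹ᵁ U) (fun _ => Iff.rfl) fun x _ => by
    obtain ⟨d, f, hd, hf, hfx⟩ := exists_pos_notMem (𝒜 := 𝒜) x
    exact ⟨d, f, hd, hf, hfx, isFracBij_of_bijective ψ v hv hbij⟩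

end GrothLib.RelTilde8
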