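import Groth.Agent.Lib.RelTilde8.FiniteType
import Groth.Agent.Lib.RelProjK.Local

/-!
# The non-vanishing locus of the section of `O(d)` attached to a global section of degree `d`
-/

set_option autoImplicit false
set_option backward.isDefEq.respectTransparency false
set_option maxHeartbeats 400000

universe u

open CategoryTheory AlgebraicGeometry TopologicalSpace Opposite
open GrothLib.RelProjK (dg em mem_opensRange_em tr app_tr tr_tr)

noncomputable section

namespace GrothLib.RelTilde8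

section ring

variable {A σ : Type u} [CommRing A] [SetLike σ A] [AddSubgroupClass σ A] {𝒜 : ℕ → σ} [GradedRing 𝒜]

theorem val_smul_twist {n : ℤ} {V : (Proj 𝒜).Opens} (r : Γ(Proj 𝒜, V)) (t : Γ(GrTwist.twist 𝒜 n, V)) (y : V) :
    GrTwist.val (r • t) y = ((show GrTwist.O (𝒜 := 𝒜) (op V) from r).1 y).val * GrTwist.val t y :=
  GrTwist.coe_smul_val n y.1 _ _

theorem val_twist_ext {n : ℤ} {V : (Proj 𝒜).Opens} {t t' : Γ(GrTwist.twist 𝒜 n, V)}
    (h : ∀ y, GrTwist.val t y = GrTwist.val t' y) : t = t' :=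
  Subtype.ext (funext fun y => Subtype.ext (h y))

/-- Where `f` does not vanish, `f / 1` generates `O(deg f)`. -/
theorem bijective_smul_of_val_eq {d : ℕ} {f : A} (hf : f ∈ 𝒜 d) {V : (Proj 𝒜).Opens}
    (hV : ∀ y : V, f ∉ y.1.asHomogeneousIdeal) (g : Γ(GrTwist.twist 𝒜 (d : ℤ), V))
    (hg : ∀ y : V, GrTwist.val g y = Localization.mk f 1) :
    Function.Bijective fun r : Γ(Proj 𝒜, V) => r • g := by
  have hu : ∀ y : V, IsUnit (Localization.mk f (1 : y.1.asHomogeneousIdeal.toIdeal.primeCompl)) := fun y => by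
    rw [Localization.mk_one_eq_algebraMap]
    exact IsLocalization.map_units _ (⟨f, hV y⟩ : y.1.asHomogeneousIdeal.toIdeal.primeCompl)
  refine ⟨fun r r' h => ?_, fun t => ?_⟩
  · refine Subtype.ext (funext fun y => HomogeneousLocalization.val_injective _ ?_)
    have e := congrArg (fun x => GrTwist.val x y) h
    simp only [val_smul_twist, hg] at e
    exact (hu y).mul_right_cancel e
  · let t' : GrTwist.sectN (𝒜 := 𝒜) (d : ℤ) (op V) := t
    have hloc : ∀ y : V, ∃ (W : (Proj 𝒜).Opens) (_ : y.1 ∈ W) (iW : W ⟶ V) (j : ℕ) (a s : A) (_ : a ∈ 𝒜 (j + d))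
        (_ : s ∈ 𝒜 j) (nin : ∀ z : W, s ∉ z.1.asHomogeneousIdeal),
        ∀ z : W, GrTwist.val t (iW z) = Localization.mk a ⟨s, nin z⟩ := fun y => by
      obtain ⟨W, hy, iW, i, j, ⟨a, ha⟩, ⟨s, hs⟩, nin, hd, hw⟩ := t'.2 y
      refine ⟨W, hy, iW, j, a, s, ?_, hs, nin, hw⟩
      rcases hd with h | h
      · rwa [show j + d = i by omega]
      · rw [show a = 0 from h]; exact zero_mem _
    have hex : ∀ y : V, ∃ q : GrTwist.A0 𝒜 y.1, q.val * Localization.mk f 1 = GrTwist.val t y := fun y => by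
      obtain ⟨W, hy, iW, j, a, s, ha, hs, nin, hw⟩ := hloc y
      refine ⟨HomogeneousLocalization.mk ⟨j + d, ⟨a, ha⟩, ⟨s * f, SetLike.mul_mem_graded hs hf⟩,
        fun hm => (y.1.isPrime.mem_or_mem hm).elim (nin ⟨y.1, hy⟩) (hV y)⟩, ?_⟩
      refine Eq.trans ?_ (hw ⟨y.1, hy⟩).symm
      rw [HomogeneousLocalization.val_mk, Localization.mk_mul, Localization.mk_eq_mk_iff, Localization.r_iff_exists]
      exact ⟨1, by simp only [Submonoid.coe_mul, OneMemClass.coe_one]; ring⟩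
    choose q hq using hex
    have hloc' : ∀ y : V, ∃ (W : (Proj 𝒜).Opens) (_ : y.1 ∈ W) (iW : W ⟶ V) (j : ℕ) (a b : 𝒜 j)
        (nin : ∀ z : W, (b : A) ∉ z.1.asHomogeneousIdeal),
        ∀ z : W, q (iW z) = HomogeneousLocalization.mk ⟨j, a, b, nin z⟩ := fun y => by
      obtain ⟨W, hy, iW, j, a, s, ha, hs, nin, hw⟩ := hloc y
      refine ⟨W, hy, iW, j + d, ⟨a, ha⟩, ⟨s * f, SetLike.mul_mem_graded hs hf⟩,
        fun z hm => (z.1.isPrime.mem_or_mem hm).elim (nin z) (hV (iW z)), fun z => ?_⟩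
      refine HomogeneousLocalization.val_injective _ ((hu (iW z)).mul_right_cancel ?_)
      rw [hq, HomogeneousLocalization.val_mk, hw z, Localization.mk_mul, Localization.mk_eq_mk_iff,
        Localization.r_iff_exists]
      exact ⟨1, by simp only [Submonoid.coe_mul, OneMemClass.coe_one]; ring⟩
    refine ⟨(⟨q, hloc'⟩ : GrTwist.O (𝒜 := 𝒜) (op V)), val_twist_ext fun y => ?_⟩
    rw [val_smul_twist, hg]
    exact hq y

end ring

section rel

variable {S P : Scheme.{u}} {𝒮 : RelProj.QCGrAlg S} {p : P ⟶ S}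
  {chart : ∀ (U : S.Opens) (hU : IsAffineOpen U), (((p ⁻¹ᵁ U : P.Opens) : Scheme.{u}) ≅ Proj (𝒮.deg U hU))}
  {d : ℕ} {f : 𝒮.presheaf.obj (op ⊤)} {L : P.Modules}
  {lam : ∀ (U : S.Opens) (hU : IsAffineOpen U),
    L ⟶ (Scheme.Modules.pushforward (RelProj.emb p chart U hU)).obj (GrTwist.twist (𝒮.deg U hU) (d : ℤ))}
  (hL : RelProj.IsRelTwist 𝒮 p chart (d : ℤ) L lam) (s : Coh.structureModule P ⟶ L)

/-- The restriction of a global section of `𝒮`. -/
abbrev fU (f : 𝒮.presheaf.obj (op ⊤)) (U : S.AffineZariskiSite) : 𝒮.presheaf.obj (op U.1) :=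
  (𝒮.presheaf.map (homOfLE le_top).op).hom f

variable (hs : ∀ (U : S.Opens) (hU : IsAffineOpen U) (y : Proj (𝒮.deg U hU)),
      GrTwist.val (V := RelProj.emb p chart U hU ⁻¹ᵁ ⊤)
        ((lam U hU).app ⊤ (s.app ⊤ (show Γ(Coh.structureModule P, ⊤) from (1 : Γ(P, ⊤))))) ⟨y, Set.mem_univ _⟩ =
        Localization.mk ((𝒮.presheaf.map (homOfLE le_top).op).hom f) 1)

/-- A map out of the structure module is multiplication by the image of `1`. -/
theorem app_structureModule (W : P.Opens) (r : Γ(P, W)) :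
    s.app W (show Γ(Coh.structureModule P, W) from r) =
      r • s.app W (show Γ(Coh.structureModule P, W) from (1 : Γ(P, W))) :=
  (congrArg (s.app W) (show (show Γ(Coh.structureModule P, W) from r) =
    r • (show Γ(Coh.structureModule P, W) from (1 : Γ(P, W))) from (mul_one r).symm)).trans (s.app_smul r _)

include hs in
theorem val_lam_one (U : S.AffineZariskiSite) (W : P.Opens)
    (y : (em p chart U ⁻¹ᵁ W : (Proj (dg 𝒮 U)).Opens)) :
    GrTwist.val ((lam U.1 U.2).app W (s.app W (show Γ(Coh.structureModule P, W) from (1 : Γ(P, W))))) y =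
      Localization.mk (fU f U) 1 := by
  refine Eq.trans ?_ (hs U.1 U.2 y.1)
  have h1 : s.app W (show Γ(Coh.structureModule P, W) from (1 : Γ(P, W))) =
      tr L (le_top : W ≤ ⊤) (s.app ⊤ (show Γ(Coh.structureModule P, ⊤) from (1 : Γ(P, ⊤)))) := by
    rw [← app_tr]
    exact congrArg (s.app W) (map_one (P.presheaf.map (homOfLE (le_top : W ≤ ⊤)).op).hom).symm
  rw [h1, app_tr]
  rfl

include hL hs in
/-- Over the part of a chart where `f` does not vanish, the section is invertible. -/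
theorem bijective_app_of_le (hf : ∀ U : S.AffineZariskiSite, fU f U ∈ dg 𝒮 U d) (U : S.AffineZariskiSite)
    {W : P.Opens} (hW : W ≤ em p chart U ''ᵁ Proj.basicOpen (dg 𝒮 U) (fU f U)) :
    Function.Bijective (s.app W) := by
  have hWU : W ≤ p ⁻¹ᵁ U.1 := hW.trans (by rintro _ ⟨z, -, rfl⟩; exact (mem_opensRange_em U).mp ⟨z, rfl⟩)
  haveI := (em p chart U).isIso_app W fun x hx => (mem_opensRange_em U).mpr (hWU hx)
  have hb := bijective_smul_of_val_eq (hf U) (V := em p chart U ⁻¹ᵁ W) (fun y => by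
      obtain ⟨z, hz, e⟩ := hW y.2
      obtain rfl := (em p chart U).isOpenEmbedding.injective e
      exact hz)
    (show Γ(GrTwist.twist (dg 𝒮 U) (d : ℤ), em p chart U ⁻¹ᵁ W) from
      (lam U.1 U.2).app W (s.app W (show Γ(Coh.structureModule P, W) from (1 : Γ(P, W))))) (val_lam_one s hs U W)
  refine (Function.Bijective.of_comp_iff' (hL.bijective U.1 U.2 W hWU) _).mp ?_
  have e : ((lam U.1 U.2).app W ∘ s.app W : Γ(P, W) → Γ(GrTwist.twist (dg 𝒮 U) (d : ℤ), em p chart U ⁻¹ᵁ W)) =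
      (fun r => r • (show Γ(GrTwist.twist (dg 𝒮 U) (d : ℤ), em p chart U ⁻¹ᵁ W) from
        (lam U.1 U.2).app W (s.app W (show Γ(Coh.structureModule P, W) from (1 : Γ(P, W)))))) ∘
        (em p chart U).app W := by
    funext r
    refine (congrArg ((lam U.1 U.2).app W) (app_structureModule s W r)).trans ?_
    exact (lam U.1 U.2).app_smul r _
  show Function.Bijective ((lam U.1 U.2).app W ∘ s.app W : Γ(P, W) → _)
  rw [e]
  exact hb.comp (ConcreteCategory.bijective_of_isIso ((em p chart U).app W))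

include hL hs in
theorem eq_genLocus (hgen : 𝒮.IsGenDegOne) (hf : ∀ U : S.AffineZariskiSite, fU f U ∈ dg 𝒮 U d) (Xf : P.Opens)
    (hXf : ∀ (U : S.AffineZariskiSite) (y : Proj (dg 𝒮 U)),
      em p chart U y ∈ Xf ↔ y ∈ Proj.basicOpen (dg 𝒮 U) (fU f U)) :
    Xf = CohB1.genLocus L s := by
  refine Opens.ext (Set.ext fun x => ?_)
  obtain ⟨U, hxU⟩ := exists_affine p x
  obtain ⟨y, rfl⟩ := (mem_opensRange_em (chart := chart) U).mpr hxU
  refine (hXf U y).trans ⟨fun hy => ?_, fun hy => ?_⟩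
  · let W : P.Opens := em p chart U ''ᵁ Proj.basicOpen (dg 𝒮 U) (fU f U)
    have hW : IsIso ((Scheme.Modules.restrictFunctor W.ι).map s) :=
      Scheme.Modules.Hom.isIso_iff_isIso_app.mpr fun V => (ConcreteCategory.isIso_iff_bijective _).mpr
        (show Function.Bijective (s.app (W.ι ''ᵁ V)) from
          bijective_app_of_le hL s hs hf U (by rintro _ ⟨z, -, rfl⟩; exact z.2))
    exact le_sSup (show W ∈ {U : P.Opens | IsIso ((Scheme.Modules.restrictFunctor U.ι).map s)} from hW)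
      ⟨y, hy, rfl⟩
  · obtain ⟨U', hU', hyU'⟩ := Opens.mem_sSup.mp hy
    obtain ⟨g, hg, hgy⟩ : ∃ g ∈ dg 𝒮 U 1, g ∉ y.asHomogeneousIdeal := by
      obtain ⟨⟨⟨e, he⟩, g, hg⟩, hgy⟩ := Opens.mem_iSup.mp ((iSup_basicOpen_pos (𝒜 := dg 𝒮 U)).ge (Opens.mem_top y))
      by_contra hc
      push_neg at hc
      exact hgy (Ideal.pow_le_self he.ne' (mem_pow_of_gen (hgen U.1 U.2) y.asHomogeneousIdeal.toIdeal hc hg))
    let V : P.Opens := U' ⊓ em p chart U ''ᵁ Proj.basicOpen (dg 𝒮 U) g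
    have hbij : Function.Bijective (s.app V) := by
      have h := (ConcreteCategory.isIso_iff_bijective _).mp
        (Scheme.Modules.Hom.isIso_iff_isIso_app.mp hU' (Scheme.Opens.ι U' ⁻¹ᵁ V))
      have e : Scheme.Opens.ι U' ''ᵁ (Scheme.Opens.ι U' ⁻¹ᵁ V) = V := by
        rw [Scheme.Hom.image_preimage_eq_opensRange_inf, Scheme.Opens.opensRange_ι, inf_eq_right]
        exact inf_le_left
      have h' : Function.Bijective (s.app (Scheme.Opens.ι U' ''ᵁ (Scheme.Opens.ι U' ⁻¹ᵁ V))) := h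
      rwa [e] at h'
    have hgd : g ^ d ∈ dg 𝒮 U d := by simpa using SetLike.pow_mem_graded (A := dg 𝒮 U) d hg
    have hVU : V ≤ p ⁻¹ᵁ U.1 := inf_le_right.trans (by rintro _ ⟨z, -, rfl⟩; exact (mem_opensRange_em U).mp ⟨z, rfl⟩)
    let T : GrTwist.sectN (𝒜 := dg 𝒮 U) (d : ℤ) (op (em p chart U ⁻¹ᵁ V)) :=
      GrTwist.resN (d : ℤ) (homOfLE le_top).op (GrTwist.globalOf (dg 𝒮 U) ⟨g ^ d, hgd⟩)
    obtain ⟨t, ht⟩ := (hL.bijective U.1 U.2 V hVU).2 T
    obtain ⟨r, rfl⟩ := hbij.2 t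
    have hyV : y ∈ em p chart U ⁻¹ᵁ V := ⟨hyU', y, hgy, rfl⟩
    have e1 : (lam U.1 U.2).app V (s.app V r) =
        ((em p chart U).app V r • (show Γ(GrTwist.twist (dg 𝒮 U) (d : ℤ), em p chart U ⁻¹ᵁ V) from
          (lam U.1 U.2).app V (s.app V (show Γ(Coh.structureModule P, V) from (1 : Γ(P, V))))) :
          Γ(GrTwist.twist (dg 𝒮 U) (d : ℤ), em p chart U ⁻¹ᵁ V)) :=
      (congrArg ((lam U.1 U.2).app V) (app_structureModule s V r)).trans ((lam U.1 U.2).app_smul r _)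
    have e := congrArg (fun x => GrTwist.val x ⟨y, hyV⟩) (e1.symm.trans ht)
    rw [val_smul_twist, val_lam_one s hs U V,
      show GrTwist.val T (⟨y, hyV⟩ : (em p chart U ⁻¹ᵁ V : (Proj (dg 𝒮 U)).Opens)) = Localization.mk (g ^ d) 1 from rfl,
      Localization.mk_one_eq_algebraMap, Localization.mk_one_eq_algebraMap] at e
    have hu : IsUnit (algebraMap (𝒮.presheaf.obj (op U.1)) (GrTwist.Loc (dg 𝒮 U) y) (g ^ d)) :=
      IsLocalization.map_units _ (⟨g ^ d, fun hm => hgy (y.isPrime.mem_of_pow_mem _ hm)⟩ :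
        y.asHomogeneousIdeal.toIdeal.primeCompl)
    rw [← e] at hu
    exact (IsLocalization.AtPrime.isUnit_to_map_iff _ y.asHomogeneousIdeal.toIdeal (fU f U)).mp
      (isUnit_of_mul_isUnit_right hu)

end rel

end GrothLib.RelTilde8
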