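import Groth.Agent.Lib.RelTilde8.Comap
import Groth.Agent.Lib.RelProjK.Twist
import Groth.Agent.Lib.RelProjK.Local
import Groth.Agent.Lib.QCoh.Affine

/-!
# The module on a relative Proj attached to a graded module
-/

set_option autoImplicit false
set_option backward.isDefEq.respectTransparency false

universe u

open CategoryTheory AlgebraicGeometry TopologicalSpace Opposite
open GrothLib.RelProjK (dg rs rs_irr rs_away em map_rs_em em_comap mem_opensRange_em tr app_tr tr_tr famMod famProj famSub IsFam famLift)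
open scoped HomogeneousIdeal

noncomputable section

namespace GrothLib.RelTilde8

variable {S P : Scheme.{u}} {𝒮 : RelProj.QCGrAlg S} {p : P ⟶ S}
  {chart : ∀ (U : S.Opens) (hU : IsAffineOpen U), (((p ⁻¹ᵁ U : P.Opens) : Scheme.{u}) ≅ Proj (𝒮.deg U hU))}
  {ℳ : RelProj.GrModule 𝒮}

variable (ℳ) in
/-- Restriction of a graded module along a basic inclusion of affine opens. -/
abbrev mrs {U V : S.AffineZariskiSite} (h : V ≤ U) :
    ℳ.mod.val.obj (op U.1) →ₛₗ[(rs 𝒮 h).toRingHom] ℳ.mod.val.obj (op V.1) :=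
  ℳ.res U.2 V.2 (Scheme.AffineZariskiSite.toOpens_mono h)

variable (ℳ) in
theorem mrs_mem {U V : S.AffineZariskiSite} (h : V ≤ U) (d : ℕ) (m : ℳ.mod.val.obj (op U.1))
    (hm : m ∈ ℳ.deg U.1 U.2 d) : mrs ℳ h m ∈ ℳ.deg V.1 V.2 d :=
  ℳ.res_mem U.2 V.2 (Scheme.AffineZariskiSite.toOpens_mono h) d m hm

variable (ℳ) in
theorem mrs_comp {U V W : S.AffineZariskiSite} (h : V ≤ U) (h' : W ≤ V) (m : ℳ.mod.val.obj (op U.1)) :
    mrs ℳ h' (mrs ℳ h m) = mrs ℳ (h'.trans h) m := by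
  show ℳ.mod.val.presheaf.map _ (ℳ.mod.val.presheaf.map _ m) = ℳ.mod.val.presheaf.map _ m
  rw [← ConcreteCategory.comp_apply, ← ℳ.mod.val.presheaf.map_comp]
  rfl

section localization

variable (hℳ : Coh.IsQCoh ((AMod.toOS 𝒮.toQCAlg).obj ℳ.mod))

include hℳ in
/-- Quasi-coherence: sections over a basic open are a localization of sections. -/
theorem mrs_localization {U V : S.AffineZariskiSite} (h : V ≤ U) :
    ∃ c : 𝒮.presheaf.obj (op U.1), c ∈ dg 𝒮 U 0 ∧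
      (letI := (rs 𝒮 h).toRingHom.toAlgebra; IsLocalization.Away c (𝒮.presheaf.obj (op V.1))) ∧
      (∀ m' : ℳ.mod.val.obj (op V.1), ∃ (k : ℕ) (m : ℳ.mod.val.obj (op U.1)), mrs ℳ h m = rs 𝒮 h c ^ k • m') ∧
      ∀ m : ℳ.mod.val.obj (op U.1), mrs ℳ h m = 0 → ∃ k : ℕ, c ^ k • m = 0 := by
  obtain ⟨V, hV⟩ := V
  obtain ⟨r, hr⟩ := id h
  obtain rfl : S.basicOpen r = V := hr
  haveI : ((AMod.toOS 𝒮.toQCAlg).obj ℳ.mod).IsQuasicoherent := hℳ
  obtain ⟨hl, hs⟩ := QCoh.smulLift_and_smulSep_of_isAffineOpen U.2 ((AMod.toOS 𝒮.toQCAlg).obj ℳ.mod) r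
  refine ⟨(𝒮.str.app (op U.1)).hom r, 𝒮.str_mem U.1 U.2 r, 𝒮.isQC U.1 U.2 r, fun m' => ?_, fun m hm => ?_⟩
  · obtain ⟨k, t, ht⟩ := hl m'
    refine ⟨k, t, ht.trans ?_⟩
    refine congrArg (fun a : 𝒮.presheaf.obj (op (S.basicOpen r)) => a • m') ?_
    show (𝒮.str.app _).hom ((S.presheaf.map _).hom r ^ k) = (𝒮.presheaf.map _).hom ((𝒮.str.app (op U.1)).hom r) ^ k
    rw [map_pow]
    exact congrArg (· ^ k) (ConcreteCategory.congr_hom (𝒮.str.naturality (homOfLE (S.basicOpen_le r)).op) r)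
  · obtain ⟨k, hk⟩ := hs m hm
    refine ⟨k, ?_⟩
    rw [← map_pow]
    exact hk

include hℳ in
theorem injective_locModMap_rs {U V : S.AffineZariskiSite} (h : V ≤ U) (y : ProjectiveSpectrum (dg 𝒮 V)) :
    Function.Injective (GrMod.locModMap (rs 𝒮 h) (rs_irr 𝒮 h) (mrs ℳ h) y) := by
  obtain ⟨c, hc, hloc, hsurj, hinj⟩ := mrs_localization hℳ h
  refine (injective_iff_map_eq_zero _).mpr fun q hq => ?_
  induction q using LocalizedModule.induction_on with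
  | h m s =>
    rw [GrMod.locModMap_mk, ← LocalizedModule.zero_mk (1 : y.asHomogeneousIdeal.toIdeal.primeCompl)] at hq
    obtain ⟨⟨b, hb⟩, hbm⟩ := LocalizedModule.mk_eq.mp hq
    simp only [Submonoid.smul_def, OneMemClass.coe_one, one_smul, smul_zero] at hbm
    obtain ⟨k, a, ha⟩ := RelProjK.exists_num (rs 𝒮 h) c hloc b
    obtain ⟨l, hl⟩ := hinj (a • m) (by
      refine (LinearMap.map_smulₛₗ (mrs ℳ h) a m).trans ?_
      show rs 𝒮 h a • mrs ℳ h m = 0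
      rw [ha, mul_smul, hbm, smul_zero])
    have hmem : c ^ l * a ∈ (ProjectiveSpectrum.comap (rs 𝒮 h) (rs_irr 𝒮 h) y).asHomogeneousIdeal.toIdeal.primeCompl := by
      intro hm
      have hm' : rs 𝒮 h (c ^ l * a) ∈ y.asHomogeneousIdeal.toIdeal := hm
      rw [map_mul, map_pow, ha, ← mul_assoc, ← pow_add] at hm'
      rcases y.isPrime.mem_or_mem hm' with h1 | h1
      · exact RelProjK.map_notMem (rs 𝒮 h) c hloc y (y.isPrime.mem_of_pow_mem _ h1)
      · exact hb h1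
    rw [← LocalizedModule.zero_mk 1]
    refine LocalizedModule.mk_eq.mpr ⟨⟨_, hmem⟩, ?_⟩
    simp only [Submonoid.smul_def, OneMemClass.coe_one, one_smul, smul_zero, mul_smul, hl]

end localization

variable (p chart) in
/-- The module of a chart, pushed to the relative Proj. -/
abbrev TwM (ℳ : RelProj.GrModule 𝒮) (n : ℤ) (U : S.AffineZariskiSite) : P.Modules :=
  (Scheme.Modules.pushforward (em p chart U)).obj (GrMod.tilde (dg 𝒮 U) (ℳ.deg U.1 U.2) n)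

/-- The value of a section at a point of the chart. -/
abbrev vlM {n : ℤ} {U : S.AffineZariskiSite} {W : P.Opens} (t : Γ(TwM p chart ℳ n U, W))
    (y : ProjectiveSpectrum (dg 𝒮 U)) (hy : em p chart U y ∈ W) :
    GrMod.LocMod (dg 𝒮 U) (M := ℳ.mod.val.obj (op U.1)) y :=
  GrMod.val (V := em p chart U ⁻¹ᵁ W) t ⟨y, hy⟩

theorem vlM_ext {n : ℤ} {U : S.AffineZariskiSite} {W : P.Opens} {t t' : Γ(TwM p chart ℳ n U, W)}
    (h : ∀ y hy, vlM t y hy = vlM t' y hy) : t = t' :=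
  Subtype.ext (funext fun y => Subtype.ext (h y.1 y.2))

variable (hP : RelProj.IsRelProj 𝒮 p chart)

variable (ℳ) in
/-- The comparison map from a chart to a basic sub-chart. -/
def cmM (n : ℤ) {U V : S.AffineZariskiSite} (h : V ≤ U) : TwM p chart ℳ n U ⟶ TwM p chart ℳ n V :=
  (Scheme.Modules.pushforward (em p chart U)).map
      (GrMod.comap (rs 𝒮 h) (rs_irr 𝒮 h) (mrs ℳ h) (mrs_mem ℳ h) n) ≫
    (Scheme.Modules.pushforwardComp (Proj.map (rs 𝒮 h) (rs_irr 𝒮 h)) (em p chart U)).hom.app _ ≫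
      (Scheme.Modules.pushforwardCongr (map_rs_em hP h)).hom.app _

theorem vlM_cmM {n : ℤ} {U V : S.AffineZariskiSite} (h : V ≤ U) {W : P.Opens}
    (t : Γ(TwM p chart ℳ n U, W)) (y : ProjectiveSpectrum (dg 𝒮 V)) (hy : em p chart V y ∈ W) :
    vlM ((cmM ℳ hP n h).app W t) y hy =
      GrMod.locModMap (rs 𝒮 h) (rs_irr 𝒮 h) (mrs ℳ h) y
        (vlM t (ProjectiveSpectrum.comap (rs 𝒮 h) (rs_irr 𝒮 h) y) ((em_comap hP h y).symm ▸ hy)) := rfl

theorem vlM_congr {n : ℤ} {U : S.AffineZariskiSite} {W : P.Opens} (t : Γ(TwM p chart ℳ n U, W))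
    {x x' : ProjectiveSpectrum (dg 𝒮 U)} (h : x = x') (hx : em p chart U x ∈ W) (hx' : em p chart U x' ∈ W)
    {m : ℳ.mod.val.obj (op U.1)} {s : 𝒮.presheaf.obj (op U.1)} (hs : s ∉ x.asHomogeneousIdeal)
    (e : vlM t x hx = LocalizedModule.mk m ⟨s, hs⟩) :
    vlM t x' hx' = LocalizedModule.mk m ⟨s, h ▸ hs⟩ := by
  subst h
  exact e

theorem cmM_comp {n : ℤ} {U V V' : S.AffineZariskiSite} (h : V ≤ U) (h' : V' ≤ V)
    {W : P.Opens} (t : Γ(TwM p chart ℳ n U, W)) :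
    (cmM ℳ hP n h').app W ((cmM ℳ hP n h).app W t) = (cmM ℳ hP n (h'.trans h)).app W t := by
  refine vlM_ext fun y hy => ?_
  have e : ProjectiveSpectrum.comap (rs 𝒮 h) (rs_irr 𝒮 h) (ProjectiveSpectrum.comap (rs 𝒮 h') (rs_irr 𝒮 h') y) =
      ProjectiveSpectrum.comap (rs 𝒮 (h'.trans h)) (rs_irr 𝒮 (h'.trans h)) y :=
    (RelProjK.locMap_comp (rs 𝒮 h) (rs_irr 𝒮 h) (rs 𝒮 h') (rs_irr 𝒮 h') (rs 𝒮 (h'.trans h))
      (rs_irr 𝒮 (h'.trans h)) (RelProjK.rs_comp 𝒮 h h') y).fst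
  rw [vlM_cmM, vlM_cmM, vlM_cmM]
  have hx : em p chart U (ProjectiveSpectrum.comap (rs 𝒮 h) (rs_irr 𝒮 h)
      (ProjectiveSpectrum.comap (rs 𝒮 h') (rs_irr 𝒮 h') y)) ∈ W := by rw [em_comap hP, em_comap hP]; exact hy
  have hx' : em p chart U (ProjectiveSpectrum.comap (rs 𝒮 (h'.trans h)) (rs_irr 𝒮 (h'.trans h)) y) ∈ W := by
    rw [em_comap hP]; exact hy
  obtain ⟨⟨m, s, hs⟩, hms⟩ : ∃ q : ℳ.mod.val.obj (op U.1) ×
      (ProjectiveSpectrum.comap (rs 𝒮 h) (rs_irr 𝒮 h)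
        (ProjectiveSpectrum.comap (rs 𝒮 h') (rs_irr 𝒮 h') y)).asHomogeneousIdeal.toIdeal.primeCompl,
      vlM t _ hx = LocalizedModule.mk q.1 q.2 := by
    induction vlM t _ hx using LocalizedModule.induction_on with
    | h m s => exact ⟨(m, s), rfl⟩
  refine (congrArg (fun q => GrMod.locModMap (rs 𝒮 h') _ (mrs ℳ h') y (GrMod.locModMap (rs 𝒮 h) _ (mrs ℳ h) _ q))
    hms).trans (Eq.trans ?_ (congrArg (GrMod.locModMap (rs 𝒮 (h'.trans h)) _ (mrs ℳ (h'.trans h)) y)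
      (vlM_congr t e hx hx' hs hms)).symm)
  rw [GrMod.locModMap_mk, GrMod.locModMap_mk, GrMod.locModMap_mk]
  refine LocalizedModule.mk_eq.mpr ⟨1, ?_⟩
  simp only [Submonoid.smul_def, OneMemClass.coe_one, one_smul, mrs_comp ℳ h h', RelProjK.rs_comp 𝒮 h h']

variable (hℳ : Coh.IsQCoh ((AMod.toOS 𝒮.toQCAlg).obj ℳ.mod))

include hℳ in
/-- Inside the sub-chart the comparison is bijective. -/
theorem bijective_cmM {n : ℤ} {U V : S.AffineZariskiSite} (h : V ≤ U) {W : P.Opens} (hW : W ≤ p ⁻¹ᵁ V.1) :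
    Function.Bijective ((cmM ℳ hP n h).app W) := by
  obtain ⟨c, hc, hloc, hsurj, hinj⟩ := mrs_localization hℳ h
  exact bijective_comapApp_of_localization (rs 𝒮 h) (rs_irr 𝒮 h) (mrs ℳ h) (mrs_mem ℳ h) hc hsurj hinj n
    (em p chart U ⁻¹ᵁ W) (em p chart V ⁻¹ᵁ W)
    (fun y => show em p chart V y ∈ W ↔ em p chart U (ProjectiveSpectrum.comap (rs 𝒮 h) (rs_irr 𝒮 h) y) ∈ W by
      rw [em_comap hP h])
    fun x hx hcx => by
      obtain ⟨y, hy⟩ := (mem_opensRange_em (chart := chart) V).mpr (hW hx)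
      obtain rfl : ProjectiveSpectrum.comap (rs 𝒮 h) (rs_irr 𝒮 h) y = x :=
        (em p chart U).isOpenEmbedding.injective ((em_comap hP h y).trans hy)
      exact RelProjK.map_notMem (rs 𝒮 h) c hloc y hcx

variable (n : ℤ)

include hℳ in
/-- Equality of sections on a chart can be tested on basic sub-charts. -/
theorem ext_cmM {U : S.AffineZariskiSite} {W : P.Opens} {t t' : Γ(TwM p chart ℳ n U, W)}
    (h : ∀ x ∈ W, p x ∈ U.1 → ∃ (D : S.AffineZariskiSite) (hD : D ≤ U), p x ∈ D.1 ∧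
      (cmM ℳ hP n hD).app W t = (cmM ℳ hP n hD).app W t') : t = t' := by
  refine vlM_ext fun y hy => ?_
  obtain ⟨D, hD, hxD, he⟩ := h _ hy ((mem_opensRange_em U).mp ⟨y, rfl⟩)
  obtain ⟨y', hy'⟩ := (mem_opensRange_em (chart := chart) D).mpr hxD
  have e : ProjectiveSpectrum.comap (rs 𝒮 hD) (rs_irr 𝒮 hD) y' = y :=
    (em p chart U).isOpenEmbedding.injective ((em_comap hP hD y').trans hy')
  subst e
  have h1 := congrArg (fun v => vlM v y' (hy'.symm ▸ hy)) he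
  exact (injective_locModMap_rs hℳ hD y') h1

theorem ext_inf {U : S.AffineZariskiSite} {W : P.Opens} {t t' : Γ(TwM p chart ℳ n U, W)}
    (h : tr _ (inf_le_left : W ⊓ p ⁻¹ᵁ U.1 ≤ W) t = tr _ (inf_le_left : W ⊓ p ⁻¹ᵁ U.1 ≤ W) t') : t = t' :=
  vlM_ext fun y hy => congrArg (fun v => vlM v y (show em p chart U y ∈ W ⊓ p ⁻¹ᵁ U.1 from
    ⟨hy, (mem_opensRange_em U).mp ⟨y, rfl⟩⟩)) h

/-- The twisting sheaf of a relative Proj. -/
def relTilde (ℳ : RelProj.GrModule 𝒮) (n : ℤ) : P.Modules := famMod (TwM p chart ℳ n) (cmM ℳ hP n)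

/-- The projection to a chart. -/
def tildeProjection (ℳ : RelProj.GrModule 𝒮) (n : ℤ) (U : S.AffineZariskiSite) : relTilde hP ℳ n ⟶ TwM p chart ℳ n U :=
  famProj (TwM p chart ℳ n) (cmM ℳ hP n) U

theorem tildeProjection_app (U : S.AffineZariskiSite) {W : P.Opens} (t : Γ(relTilde hP ℳ n, W)) :
    (tildeProjection hP ℳ n U).app W t = (show famSub (TwM p chart ℳ n) (cmM ℳ hP n) W from t).1 U := rfl

include hℳ in
/-- Compatible data on small sub-charts of a chart glue to a section on the chart. -/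
theorem exists_lift {U : S.AffineZariskiSite} {W : P.Opens} (Q : S.AffineZariskiSite → Prop)
    (hQ : ∀ D E, E ≤ D → Q D → Q E) (hcov : ∀ x ∈ W, p x ∈ U.1 → ∃ D, D ≤ U ∧ Q D ∧ p x ∈ D.1)
    (t : ∀ D, Q D → Γ(TwM p chart ℳ n D, W))
    (ht : ∀ D E (h : E ≤ D) (hD : Q D), (cmM ℳ hP n h).app W (t D hD) = t E (hQ D E h hD)) :
    ∃ s : Γ(TwM p chart ℳ n U, W), ∀ D (h : D ≤ U) (hD : Q D), (cmM ℳ hP n h).app W s = t D hD := by
  let ι := {D : S.AffineZariskiSite // D ≤ U ∧ Q D}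
  choose s hs using fun D : ι => (bijective_cmM hP hℳ (n := n) D.2.1 (inf_le_right : W ⊓ p ⁻¹ᵁ D.1.1 ≤ p ⁻¹ᵁ D.1.1)).2
    (tr _ inf_le_left (t D.1 D.2.2))
  have hcompat : ∀ (D D' : ι) (O : P.Opens) (h1 : O ≤ W ⊓ p ⁻¹ᵁ D.1.1) (h2 : O ≤ W ⊓ p ⁻¹ᵁ D'.1.1),
      tr _ h1 (s D) = tr _ h2 (s D') := by
    intro D D' O h1 h2
    refine ext_cmM hP hℳ n fun x hx hxU => ?_
    obtain ⟨g, g', hgg, hxg⟩ := exists_basicOpen_le_affine_inter D.1.2 D'.1.2 (p x) ⟨(h1 hx).2, (h2 hx).2⟩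
    let E : S.AffineZariskiSite := D.1.basicOpen g
    have hED : E ≤ D.1 := ⟨g, rfl⟩
    have hED' : E ≤ D'.1 := ⟨g', hgg.symm⟩
    refine ⟨E, hED.trans D.2.1, hxg, ?_⟩
    rw [← cmM_comp hP D.2.1 hED]
    conv_rhs => rw [← cmM_comp hP D'.2.1 hED']
    rw [app_tr, app_tr, hs D, app_tr (cmM ℳ hP n D'.2.1), app_tr (cmM ℳ hP n hED'), hs D']
    rw [app_tr, app_tr, ht, ht, tr_tr, tr_tr]
  obtain ⟨sU, hsU, -⟩ := TopCat.Sheaf.existsUnique_gluing'
    (⟨(TwM p chart ℳ n U).presheaf, (TwM p chart ℳ n U).isSheaf⟩ : TopCat.Sheaf AddCommGrpCat.{u} P.carrier)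
    (fun D : ι => W ⊓ p ⁻¹ᵁ D.1.1) (W ⊓ p ⁻¹ᵁ U.1)
    (fun D => homOfLE (inf_le_inf_left _ (p.preimage_mono (Scheme.AffineZariskiSite.toOpens_mono D.2.1))))
    (fun x hx => by
      obtain ⟨D, hDU, hD, hxD⟩ := hcov x hx.1 hx.2
      exact Opens.mem_iSup.mpr ⟨⟨D, hDU, hD⟩, hx.1, hxD⟩)
    s (fun D D' => hcompat D D' _ _ _)
  have hWU : em p chart U ⁻¹ᵁ W = em p chart U ⁻¹ᵁ (W ⊓ p ⁻¹ᵁ U.1) := by
    ext y
    exact ⟨fun h => ⟨h, (mem_opensRange_em U).mp ⟨y, rfl⟩⟩, fun h => h.1⟩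
  let sW : Γ(TwM p chart ℳ n U, W) := (GrMod.tilde (dg 𝒮 U) (ℳ.deg U.1 U.2) n).presheaf.map (eqToHom hWU).op sU
  refine ⟨sW, fun D h hD => ext_inf n ?_⟩
  have hle : W ⊓ p ⁻¹ᵁ D.1 ≤ W ⊓ p ⁻¹ᵁ U.1 :=
    inf_le_inf_left _ (p.preimage_mono (Scheme.AffineZariskiSite.toOpens_mono h))
  have e1 : tr _ (inf_le_left : W ⊓ p ⁻¹ᵁ D.1 ≤ W) sW = tr _ hle sU := rfl
  rw [← app_tr, e1, show tr _ hle sU = s ⟨D, h, hD⟩ from hsU ⟨D, h, hD⟩, hs ⟨D, h, hD⟩]

include hℳ in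
/-- A family is determined by, and can be given by, its member on a chart containing the open. -/
theorem bijective_tildeProjection (U₀ : S.AffineZariskiSite) {W : P.Opens} (hW : W ≤ p ⁻¹ᵁ U₀.1) :
    Function.Bijective ((tildeProjection hP ℳ n U₀).app W) := by
  have hcov : ∀ (U : S.AffineZariskiSite) (x : P), x ∈ W → p x ∈ U.1 →
      ∃ D : S.AffineZariskiSite, D ≤ U ∧ D ≤ U₀ ∧ p x ∈ D.1 := by
    intro U x hx hxU
    obtain ⟨g, g', hgg, hxg⟩ := exists_basicOpen_le_affine_inter U.2 U₀.2 (p x) ⟨hxU, hW hx⟩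
    exact ⟨U.basicOpen g, ⟨g, rfl⟩, ⟨g', hgg.symm⟩, hxg⟩
  constructor
  · intro s t hst
    rw [tildeProjection_app, tildeProjection_app] at hst
    refine Subtype.ext (funext fun U => ext_cmM hP hℳ n fun x hx hxU => ?_)
    obtain ⟨D, hDU, hD0, hxD⟩ := hcov U x hx hxU
    exact ⟨D, hDU, hxD, ((show famSub (TwM p chart ℳ n) (cmM ℳ hP n) W from s).2 U D hDU).trans
      ((((show famSub (TwM p chart ℳ n) (cmM ℳ hP n) W from s).2 U₀ D hD0).symm.trans (congrArg ((cmM ℳ hP n hD0).app W) hst)).trans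
        (((show famSub (TwM p chart ℳ n) (cmM ℳ hP n) W from t).2 U₀ D hD0).trans ((show famSub (TwM p chart ℳ n) (cmM ℳ hP n) W from t).2 U D hDU).symm))⟩
  · intro t₀
    choose s hs using fun U : S.AffineZariskiSite => exists_lift hP hℳ n (U := U) (W := W) (· ≤ U₀)
      (fun D E h h' => h.trans h') (fun x hx hxU => hcov U x hx hxU)
      (fun D hD => (cmM ℳ hP n hD).app W t₀) (fun D E h hD => cmM_comp hP hD h t₀)
    refine ⟨⟨s, fun U V h => ext_cmM hP hℳ n fun x hx hxV => ?_⟩, ?_⟩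
    · obtain ⟨D, hDV, hD0, hxD⟩ := hcov V x hx hxV
      refine ⟨D, hDV, hxD, ?_⟩
      rw [cmM_comp, hs U D (hDV.trans h) hD0, hs V D hDV hD0]
    · rw [tildeProjection_app]
      refine ext_cmM hP hℳ n fun x hx hxU => ?_
      exact ⟨U₀, le_rfl, hxU, hs U₀ U₀ le_rfl le_rfl⟩

theorem relTilde_compat (U V : S.AffineZariskiSite) (h : V ≤ U) {W : P.Opens} (s : Γ(relTilde hP ℳ n, W))
    (y : ProjectiveSpectrum (dg 𝒮 V)) (hy : em p chart V y ∈ W) :
    vlM ((tildeProjection hP ℳ n V).app W s) y hy =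
      GrMod.locModMap (rs 𝒮 h) (rs_irr 𝒮 h) (mrs ℳ h) y
        (vlM ((tildeProjection hP ℳ n U).app W s) (ProjectiveSpectrum.comap (rs 𝒮 h) (rs_irr 𝒮 h) y)
          ((em_comap hP h y).symm ▸ hy)) := by
  rw [tildeProjection_app, tildeProjection_app,
    ← (show famSub (TwM p chart ℳ n) (cmM ℳ hP n) W from s).2 U V h, vlM_cmM]

include hP hℳ in
theorem exists_isRelTilde :
    ∃ (F : P.Modules) (lam : ∀ (U : S.Opens) (hU : IsAffineOpen U),
      F ⟶ (Scheme.Modules.pushforward (RelProj.emb p chart U hU)).obj (GrMod.tilde (𝒮.deg U hU) (ℳ.deg U hU) n)),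
      RelProj.IsRelTilde 𝒮 p chart ℳ n F lam :=
  ⟨relTilde hP ℳ n, fun U hU => tildeProjection hP ℳ n ⟨U, hU⟩, fun U hU W hW =>
    bijective_tildeProjection hP hℳ n ⟨U, hU⟩ hW, fun U hU r W s y hy hy' =>
      relTilde_compat hP n ⟨U, hU⟩ (Scheme.AffineZariskiSite.basicOpen ⟨U, hU⟩ r) ⟨r, rfl⟩ s y hy⟩

section unique

variable {F : P.Modules}
  {lam : ∀ (U : S.Opens) (hU : IsAffineOpen U),
    F ⟶ (Scheme.Modules.pushforward (RelProj.emb p chart U hU)).obj (GrMod.tilde (𝒮.deg U hU) (ℳ.deg U hU) n)}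
  (hF : RelProj.IsRelTilde 𝒮 p chart ℳ n F lam)

include hF in
theorem isFam_of_isRelTilde {W : P.Opens} (s : Γ(F, W)) :
    IsFam (TwM p chart ℳ n) (cmM ℳ hP n) fun U : S.AffineZariskiSite =>
      (show Γ(TwM p chart ℳ n U, W) from (lam U.1 U.2).app W s) := by
  intro U V h
  obtain ⟨V, hV⟩ := V
  obtain ⟨r, hr⟩ := id h
  obtain rfl : S.basicOpen r = V := hr
  refine vlM_ext fun y hy => ?_
  rw [vlM_cmM]
  exact (hF.compat U.1 U.2 r W s y hy _).symm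

/-- The comparison with the standard model. -/
def toRelTilde : F ⟶ relTilde hP ℳ n :=
  famLift (fun U : S.AffineZariskiSite => lam U.1 U.2) fun _ s => isFam_of_isRelTilde hP n hF s

theorem toRelTilde_comp (U : S.Opens) (hU : IsAffineOpen U) :
    toRelTilde hP n hF ≫ tildeProjection hP ℳ n ⟨U, hU⟩ = lam U hU :=
  RelProjK.famLift_proj (fun U : S.AffineZariskiSite => lam U.1 U.2) _ _

include hℳ in
theorem isIso_toRelTilde : IsIso (toRelTilde hP n hF) :=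
  RelProjK.isIso_of_bijective_local (p := p) _ fun U W hW => by
    refine ((bijective_tildeProjection hP hℳ n U hW).of_comp_iff' _).mp ?_
    exact hF.bijective U.1 U.2 W hW

include hF in
theorem hom_ext_lam {G : P.Modules} {φ φ' : G ⟶ F}
    (h : ∀ (U : S.Opens) (hU : IsAffineOpen U), φ ≫ lam U hU = φ' ≫ lam U hU) : φ = φ' := by
  refine Scheme.Modules.hom_ext _ _ fun W => ?_
  refine ConcreteCategory.hom_ext _ _ fun s => ?_
  refine TopCat.Sheaf.eq_of_locally_eq' (⟨F.presheaf, F.isSheaf⟩ : TopCat.Sheaf AddCommGrpCat.{u} P.carrier)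
    (fun U : S.AffineZariskiSite => W ⊓ p ⁻¹ᵁ U.1) W (fun U => homOfLE inf_le_left) (fun x hx => by
      obtain ⟨U, hU, hxU, -⟩ := exists_isAffineOpen_mem_and_subset (Opens.mem_top (p x))
      exact Opens.mem_iSup.mpr ⟨⟨U, hU⟩, hx, hxU⟩) _ _ fun U => ?_
  refine (hF.bijective U.1 U.2 _ inf_le_right).1 ?_
  show (lam U.1 U.2).app _ (tr F inf_le_left (φ.app W s)) = (lam U.1 U.2).app _ (tr F inf_le_left (φ'.app W s))
  rw [← app_tr, ← app_tr]
  exact congrArg (fun ψ => Scheme.Modules.Hom.app ψ _ (tr G inf_le_left s)) (h U.1 U.2)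

include hP hℳ hF in
theorem existsUnique_iso {F' : P.Modules}
    {lam' : ∀ (U : S.Opens) (hU : IsAffineOpen U),
      F' ⟶ (Scheme.Modules.pushforward (RelProj.emb p chart U hU)).obj (GrMod.tilde (𝒮.deg U hU) (ℳ.deg U hU) n)}
    (hF' : RelProj.IsRelTilde 𝒮 p chart ℳ n F' lam') :
    (∃! φ : F ⟶ F', ∀ (U : S.Opens) (hU : IsAffineOpen U), φ ≫ lam' U hU = lam U hU) ∧
      ∀ φ : F ⟶ F', (∀ (U : S.Opens) (hU : IsAffineOpen U), φ ≫ lam' U hU = lam U hU) → IsIso φ := by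
  haveI := isIso_toRelTilde hP hℳ n hF
  haveI := isIso_toRelTilde hP hℳ n hF'
  have hu : ∀ φ : F ⟶ F', (∀ (U : S.Opens) (hU : IsAffineOpen U), φ ≫ lam' U hU = lam U hU) →
      φ = toRelTilde hP n hF ≫ inv (toRelTilde hP n hF') := fun φ hφ => hom_ext_lam n hF' fun U hU => by
    rw [hφ U hU, Category.assoc, ← toRelTilde_comp hP n hF' U hU, IsIso.inv_hom_id_assoc, toRelTilde_comp]
  refine ⟨⟨toRelTilde hP n hF ≫ inv (toRelTilde hP n hF'), fun U hU => ?_, hu⟩, fun φ hφ => ?_⟩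
  · rw [Category.assoc, ← toRelTilde_comp hP n hF' U hU, IsIso.inv_hom_id_assoc, toRelTilde_comp]
  · rw [hu φ hφ]; infer_instance

include hF in
theorem isQCoh_of_isRelTilde : Coh.IsQCoh F := by
  refine RelProjK.isQuasicoherent_of_pullbacks (fun U : S.AffineZariskiSite => em p chart U) (fun x => ?_) fun U => ?_
  · obtain ⟨U, hU, hxU, -⟩ := exists_isAffineOpen_mem_and_subset (Opens.mem_top (p x))
    exact ⟨⟨U, hU⟩, (mem_opensRange_em ⟨U, hU⟩).mpr hxU⟩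
  · obtain ⟨e⟩ := RelProjK.nonempty_pullback_iso_of_bijective (em p chart U) (lam U.1 U.2) fun W hW =>
      hF.bijective U.1 U.2 W fun x hx => (mem_opensRange_em U).mp (hW hx)
    exact RelProjK.isQuasicoherent_of_iso e.symm (isQuasicoherent_tilde n)

end unique

section map

variable {𝒩 : RelProj.GrModule 𝒮} (u : ℳ.mod ⟶ 𝒩.mod) (hu : RelProj.IsGrModHom u)

variable (p chart) in
/-- The map of a degree preserving homomorphism, on one chart. -/
def mapChart (U : S.AffineZariskiSite) : TwM p chart ℳ n U ⟶ TwM p chart 𝒩 n U :=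
  (Scheme.Modules.pushforward (em p chart U)).map
    (GrMod.map (dg 𝒮 U)
      (show ℳ.mod.val.obj (op U.1) →ₗ[𝒮.presheaf.obj (op U.1)] 𝒩.mod.val.obj (op U.1) from (u.val.app (op U.1)).hom)
      (hu U.1 U.2) n)

theorem vlM_mapChart (U : S.AffineZariskiSite) {W : P.Opens} (t : Γ(TwM p chart ℳ n U, W))
    (y : ProjectiveSpectrum (dg 𝒮 U)) (hy : em p chart U y ∈ W) :
    vlM ((mapChart p chart n u hu U).app W t) y hy =
      GrMod.locMap (show ℳ.mod.val.obj (op U.1) →ₗ[𝒮.presheaf.obj (op U.1)] 𝒩.mod.val.obj (op U.1) from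
        (u.val.app (op U.1)).hom) y (vlM t y hy) := rfl

theorem mapChart_cmM {U V : S.AffineZariskiSite} (h : V ≤ U) {W : P.Opens} (t : Γ(TwM p chart ℳ n U, W)) :
    (cmM 𝒩 hP n h).app W ((mapChart p chart n u hu U).app W t) =
      (mapChart p chart n u hu V).app W ((cmM ℳ hP n h).app W t) := by
  refine vlM_ext fun y hy => ?_
  rw [vlM_cmM, vlM_mapChart, vlM_mapChart, vlM_cmM]
  induction vlM t (ProjectiveSpectrum.comap (rs 𝒮 h) (rs_irr 𝒮 h) y) ((em_comap hP h y).symm ▸ hy)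
    using LocalizedModule.induction_on with
  | h m s =>
    rw [GrMod.locMap_mk, GrMod.locModMap_mk, GrMod.locModMap_mk, GrMod.locMap_mk]
    exact congrArg (fun z => LocalizedModule.mk z _)
      (PresheafOfModules.naturality_apply u.val (homOfLE (Scheme.AffineZariskiSite.toOpens_mono h)).op m).symm

include hP in
theorem existsUnique_map (h𝒩 : Coh.IsQCoh ((AMod.toOS 𝒮.toQCAlg).obj 𝒩.mod)) {F : P.Modules}
    {lam : ∀ (U : S.Opens) (hU : IsAffineOpen U),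
      F ⟶ (Scheme.Modules.pushforward (RelProj.emb p chart U hU)).obj (GrMod.tilde (𝒮.deg U hU) (ℳ.deg U hU) n)}
    (hF : RelProj.IsRelTilde 𝒮 p chart ℳ n F lam) {G : P.Modules}
    {lam' : ∀ (U : S.Opens) (hU : IsAffineOpen U),
      G ⟶ (Scheme.Modules.pushforward (RelProj.emb p chart U hU)).obj (GrMod.tilde (𝒮.deg U hU) (𝒩.deg U hU) n)}
    (hG : RelProj.IsRelTilde 𝒮 p chart 𝒩 n G lam') :
    ∃! ut : F ⟶ G, ∀ (U : S.Opens) (hU : IsAffineOpen U),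
      ut ≫ lam' U hU = lam U hU ≫ mapChart p chart n u hu ⟨U, hU⟩ := by
  let l : ∀ U : S.AffineZariskiSite, F ⟶ TwM p chart 𝒩 n U := fun U => lam U.1 U.2 ≫ mapChart p chart n u hu U
  have hl : ∀ (W : P.Opens) (s : Γ(F, W)), IsFam (TwM p chart 𝒩 n) (cmM 𝒩 hP n) fun U => (l U).app W s := by
    intro W s U V h
    refine (mapChart_cmM hP n u hu h _).trans ?_
    exact congrArg ((mapChart p chart n u hu V).app W) (isFam_of_isRelTilde hP n hF s U V h)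
  haveI := isIso_toRelTilde hP h𝒩 n hG
  have hut : ∀ (U : S.Opens) (hU : IsAffineOpen U),
      (famLift l hl ≫ inv (toRelTilde hP n hG)) ≫ lam' U hU = lam U hU ≫ mapChart p chart n u hu ⟨U, hU⟩ := by
    intro U hU
    rw [Category.assoc, ← toRelTilde_comp hP n hG U hU, IsIso.inv_hom_id_assoc]
    exact RelProjK.famLift_proj l hl ⟨U, hU⟩
  exact ⟨_, hut, fun φ hφ => hom_ext_lam n hG fun U hU => (hφ U hU).trans (hut U hU).symm⟩

end map

end GrothLib.RelTilde8
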