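import Groth.Agent.Lib.RelTilde8.Rel
import Groth.Agent.Lib.OX.Exact
import Groth.Agent.Lib.ZClos.Basic

/-!
# Exactness of `ℳ ↦ ℳ(n)~`
-/

set_option autoImplicit false
set_option backward.isDefEq.respectTransparency false
set_option maxHeartbeats 400000

universe u

open CategoryTheory CategoryTheory.Limits AlgebraicGeometry TopologicalSpace Opposite
open GrothLib.InvExt (mres)
open GrothLib.RelProjK (dg em mem_opensRange_em tr app_tr tr_tr)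
open scoped HomogeneousIdeal

noncomputable section

namespace GrothLib.RelTilde8

section ring

variable {A σ : Type u} [CommRing A] [SetLike σ A] [AddSubgroupClass σ A] {𝒜 : ℕ → σ} [GradedRing 𝒜]
variable {M τ : Type u} [AddCommGroup M] [Module A M] [SetLike τ M] [AddSubgroupClass τ M] {ℳ : ℕ → τ}
  [SetLike.GradedSMul 𝒜 ℳ] [DirectSum.Decomposition ℳ]
variable {N τ' : Type u} [AddCommGroup N] [Module A N] [SetLike τ' N] [AddSubgroupClass τ' N] {𝒩 : ℕ → τ'}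
  [SetLike.GradedSMul 𝒜 𝒩] [DirectSum.Decomposition 𝒩]
variable {L τ'' : Type u} [AddCommGroup L] [Module A L] [SetLike τ'' L] [AddSubgroupClass τ'' L] {ℒ : ℕ → τ''}
  [SetLike.GradedSMul 𝒜 ℒ] [DirectSum.Decomposition ℒ]

theorem map_decompose_lin (u : M →ₗ[A] N) (hu : ∀ (i : ℕ) (m : M), m ∈ ℳ i → u m ∈ 𝒩 i) (m : M) (i : ℕ) :
    u (DirectSum.decompose ℳ m i : M) = (DirectSum.decompose 𝒩 (u m) i : N) := by
  classical
  refine DirectSum.Decomposition.inductionOn ℳ (motive := fun m : M =>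
    u (DirectSum.decompose ℳ m i : M) = (DirectSum.decompose 𝒩 (u m) i : N)) ?_ ?_ ?_ m
  · simp
  · intro k b
    rcases eq_or_ne k i with rfl | hk
    · rw [DirectSum.decompose_of_mem_same ℳ b.2, DirectSum.decompose_of_mem_same 𝒩 (hu k b b.2)]
    · rw [DirectSum.decompose_of_mem_ne ℳ b.2 hk, DirectSum.decompose_of_mem_ne 𝒩 (hu k b b.2) hk, map_zero]
  · intro x y hx hy
    simp only [DirectSum.decompose_add, DirectSum.add_apply, AddMemClass.coe_add, map_add, hx, hy]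

theorem map_zero_locMap (x : ProjectiveSpectrum 𝒜) (q : GrMod.LocMod 𝒜 (M := N) x) :
    GrMod.locMap (0 : N →ₗ[A] N) x q = 0 := by
  induction q using LocalizedModule.induction_on with
  | h m z => exact (GrMod.locMap_mk _ _ _ _).trans (LocalizedModule.zero_mk z)

/-- A section killed by `v` is, near a point, the image of a fraction. -/
theorem exists_local_lift (u : M →ₗ[A] N) (hu : ∀ (i : ℕ) (m : M), m ∈ ℳ i → u m ∈ 𝒩 i)
    (v : N →ₗ[A] L) (hv : ∀ (i : ℕ) (m : N), m ∈ 𝒩 i → v m ∈ ℒ i) (n₀ : ℕ)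
    (hex : ∀ (i : ℕ) (m : N), n₀ ≤ i → m ∈ 𝒩 i → v m = 0 → ∃ b ∈ ℳ i, u b = m) (n : ℤ)
    {V : (Proj 𝒜).Opens} (t : Γ(GrMod.tilde 𝒜 𝒩 n, V)) (ht : (GrMod.map 𝒜 v hv n).app V t = 0) (x : V) :
    ∃ w : A, w ∉ x.1.asHomogeneousIdeal ∧ Proj.basicOpen 𝒜 w ≤ V ∧
      ∀ (V' : (Proj 𝒜).Opens) (_ : V' ≤ Proj.basicOpen 𝒜 w) (hV' : V' ≤ V),
        ∃ s : Γ(GrMod.tilde 𝒜 ℳ n, V'), (GrMod.map 𝒜 u hu n).app V' s = mres (GrMod.tilde 𝒜 𝒩 n) hV' t := by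
  obtain ⟨d, f, hd, hf, hfx⟩ := exists_pos_notMem (𝒜 := 𝒜) x.1
  obtain ⟨p, q, a, w, hq, ha, hw, hdeg, hwx, hval⟩ := exists_local_frac 𝒜 t hf hd x hfx
  have hle : Proj.basicOpen 𝒜 w ≤ V := fun y hy => (hval y hy).2.1
  obtain ⟨K, hK⟩ := exists_pow_smul_eq_zero_of_mk 𝒜 hw hq (hv p a ha) fun y hy => by
    obtain ⟨-, hyV, hy'⟩ := hval y hy
    refine ⟨⟨w, hy⟩, ?_⟩
    have e : evM (⟨y, hyV⟩ : V) ((GrMod.map 𝒜 v hv n).app V t) = 0 := by rw [ht]; rfl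
    exact (GrMod.locMap_mk v y a ⟨w, hy⟩).symm.trans ((congrArg (GrMod.locMap v y) hy'.symm).trans e)
  have hpw : w ^ (K + n₀) • a ∈ 𝒩 ((K + n₀) * q + p) :=
    smul_mem (by simpa [smul_eq_mul] using SetLike.pow_mem_graded (K + n₀) hw) ha
  obtain ⟨b, hb, hub⟩ := hex _ _ (le_trans (Nat.le_add_left n₀ K) (le_trans (Nat.le_mul_of_pos_right _ hq) (Nat.le_add_right _ p))) hpw
    (by rw [map_smul, add_comm K, pow_add, mul_smul, hK, smul_zero])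
  refine ⟨w, hwx, hle, fun V' hV'w hV' => ?_⟩
  have hden : w ^ (K + n₀ + 1) ∈ 𝒜 ((K + n₀ + 1) * q) := by
    simpa [smul_eq_mul] using SetLike.pow_mem_graded (K + n₀ + 1) hw
  rcases hdeg with hdeg | hdeg
  · refine ⟨fracM (n := n) b (w ^ (K + n₀ + 1)) hb hden (fun y hm => hV'w y.2 (y.1.isPrime.mem_of_pow_mem _ hm))
      (Or.inl ?_), evM_ext fun y => ?_⟩
    · push_cast at hdeg ⊢; linarith
    · obtain ⟨-, _, hy'⟩ := hval y.1 (hV'w y.2)
      refine Eq.trans ?_ (hy'.symm.trans (evM_mres hV' t y).symm)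
      refine (GrMod.locMap_mk u y.1 b _).trans ?_
      refine LocalizedModule.mk_eq.mpr ⟨1, ?_⟩
      simp only [Submonoid.smul_def, OneMemClass.coe_one, one_smul, hub, ← mul_smul]
      congr 1
      exact (pow_succ' w (K + n₀)).symm
  · refine ⟨0, evM_ext fun y => ?_⟩
    obtain ⟨-, _, hy'⟩ := hval y.1 (hV'w y.2)
    refine Eq.trans ?_ (hy'.symm.trans (evM_mres hV' t y).symm)
    rw [hdeg, LocalizedModule.zero_mk]
    exact map_zero (GrMod.locMap u y.1)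

/-- A map injective in large degrees is injective on sections. -/
theorem injective_map_app (u : M →ₗ[A] N) (hu : ∀ (i : ℕ) (m : M), m ∈ ℳ i → u m ∈ 𝒩 i) (n₀ : ℕ)
    (hinj : ∀ (i : ℕ) (m : M), n₀ ≤ i → m ∈ ℳ i → u m = 0 → m = 0) (n : ℤ) (V : (Proj 𝒜).Opens) :
    Function.Injective ((GrMod.map 𝒜 u hu n).app V) := by
  refine (injective_iff_map_eq_zero _).mpr fun t ht => evM_ext fun x => ?_
  obtain ⟨d, f, hd, hf, hfx⟩ := exists_pos_notMem (𝒜 := 𝒜) x.1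
  obtain ⟨p, q, a, w, hq, ha, hw, -, hwx, hval⟩ := exists_local_frac 𝒜 t hf hd x hfx
  obtain ⟨K, hK⟩ := exists_pow_smul_eq_zero_of_mk 𝒜 hw hq (hu p a ha) fun y hy => by
    obtain ⟨-, hyV, hy'⟩ := hval y hy
    refine ⟨⟨w, hy⟩, ?_⟩
    have e : evM (⟨y, hyV⟩ : V) ((GrMod.map 𝒜 u hu n).app V t) = 0 := by rw [ht]; rfl
    exact (GrMod.locMap_mk u y a ⟨w, hy⟩).symm.trans ((congrArg (GrMod.locMap u y) hy'.symm).trans e)
  have h0 := hinj _ (w ^ (K + n₀) • a)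
    (le_trans (Nat.le_add_left n₀ K) (le_trans (Nat.le_mul_of_pos_right _ hq) (Nat.le_add_right _ p)))
    (smul_mem (by simpa [smul_eq_mul] using SetLike.pow_mem_graded (K + n₀) hw) ha)
    (by rw [map_smul, add_comm K, pow_add, mul_smul, hK, smul_zero])
  obtain ⟨-, _, hx'⟩ := hval x.1 hwx
  refine hx'.trans ?_
  rw [evM_zero, ← LocalizedModule.zero_mk (1 : x.1.asHomogeneousIdeal.toIdeal.primeCompl)]
  refine LocalizedModule.mk_eq.mpr ⟨⟨w ^ (K + n₀), fun hm => hwx (x.1.isPrime.mem_of_pow_mem _ hm)⟩, ?_⟩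
  simp only [Submonoid.smul_def, smul_zero, OneMemClass.coe_one, one_smul, h0]

/-- A module with vanishing pieces in large degrees has zero sections. -/
theorem eq_zero_of_eventually_zero (n₀ : ℕ) (h0 : ∀ (i : ℕ) (m : M), n₀ ≤ i → m ∈ ℳ i → m = 0) (n : ℤ)
    {V : (Proj 𝒜).Opens} (t : Γ(GrMod.tilde 𝒜 ℳ n, V)) : t = 0 := by
  refine evM_ext fun x => ?_
  obtain ⟨d, f, hd, hf, hfx⟩ := exists_pos_notMem (𝒜 := 𝒜) x.1
  obtain ⟨p, q, a, w, hq, ha, hw, -, hwx, hval⟩ := exists_local_frac 𝒜 t hf hd x hfx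
  have h := h0 _ (w ^ n₀ • a) (le_trans (Nat.le_mul_of_pos_right _ hq) (Nat.le_add_right _ p))
    (smul_mem (by simpa [smul_eq_mul] using SetLike.pow_mem_graded n₀ hw) ha)
  obtain ⟨-, _, hx'⟩ := hval x.1 hwx
  refine hx'.trans ?_
  rw [evM_zero, ← LocalizedModule.zero_mk (1 : x.1.asHomogeneousIdeal.toIdeal.primeCompl)]
  refine LocalizedModule.mk_eq.mpr ⟨⟨w ^ n₀, fun hm => hwx (x.1.isPrime.mem_of_pow_mem _ hm)⟩, ?_⟩
  simp only [Submonoid.smul_def, smul_zero, OneMemClass.coe_one, one_smul, h]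

/-- Exactness of sections over a basic open. -/
theorem exact_map_app_basicOpen (u : M →ₗ[A] N) (hu : ∀ (i : ℕ) (m : M), m ∈ ℳ i → u m ∈ 𝒩 i)
    (v : N →ₗ[A] L) (hv : ∀ (i : ℕ) (m : N), m ∈ 𝒩 i → v m ∈ ℒ i) (hex : Function.Exact u v) (n : ℤ)
    {d : ℕ} (hd : 0 < d) {f : A} (hf : f ∈ 𝒜 d) :
    Function.Exact ((GrMod.map 𝒜 u hu n).app (Proj.basicOpen 𝒜 f))
      ((GrMod.map 𝒜 v hv n).app (Proj.basicOpen 𝒜 f)) := by
  intro t
  constructor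
  · intro ht
    obtain ⟨k, -, p, a, hp, ha, hval⟩ := exists_frac 𝒜 hf hd t
    obtain ⟨K, hK⟩ := exists_pow_smul_eq_zero_of_mk 𝒜 hf hd (hv p a ha) fun y hy => by
      refine ⟨⟨f ^ k, fun hm => hy (y.isPrime.mem_of_pow_mem k hm)⟩, ?_⟩
      have e : evM (⟨y, hy⟩ : Proj.basicOpen 𝒜 f) ((GrMod.map 𝒜 v hv n).app _ t) = 0 := by rw [ht]; rfl
      exact (GrMod.locMap_mk v y a _).symm.trans ((congrArg (GrMod.locMap v y) (hval ⟨y, hy⟩).symm).trans e)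
    obtain ⟨b, hb⟩ := (hex (f ^ K • a)).mp (by rw [map_smul, hK])
    have hfa : f ^ K • a ∈ 𝒩 (K * d + p) := smul_mem (by simpa [smul_eq_mul] using SetLike.pow_mem_graded K hf) ha
    refine ⟨fracM (n := n) (DirectSum.decompose ℳ b (K * d + p) : M) (f ^ (K + k)) (SetLike.coe_mem _)
      (by simpa [smul_eq_mul] using SetLike.pow_mem_graded (K + k) hf)
      (fun y hm => y.2 (y.1.isPrime.mem_of_pow_mem _ hm)) (Or.inl (by push_cast at hp ⊢; linarith)), evM_ext fun y => ?_⟩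
    refine Eq.trans ?_ (hval y).symm
    refine (GrMod.locMap_mk u y.1 _ _).trans ?_
    rw [map_decompose_lin u hu, hb, DirectSum.decompose_of_mem_same 𝒩 hfa]
    refine LocalizedModule.mk_eq.mpr ⟨1, ?_⟩
    simp only [Submonoid.smul_def, OneMemClass.coe_one, one_smul, ← mul_smul]
    congr 1
    ring
  · rintro ⟨s, rfl⟩
    refine evM_ext fun y => ?_
    rw [evM_zero]
    show GrMod.locMap v y.1 (GrMod.locMap u y.1 (evM y s)) = 0
    induction evM y s using LocalizedModule.induction_on with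
    | h m s => rw [GrMod.locMap_mk, GrMod.locMap_mk, hex.apply_apply_eq_zero, LocalizedModule.zero_mk]

end ring

/-- Exactness is local: lifts near every point. -/
theorem exact_of_local_lift {X : Scheme.{u}} (T : ShortComplex X.Modules)
    (h : ∀ (x : X) (V : X.Opens), x ∈ V → ∀ t : Γ(T.X₂, V), T.g.app V t = 0 →
      ∃ (W : X.Opens) (hW : W ≤ V), x ∈ W ∧ ∃ s : Γ(T.X₁, W), T.f.app W s = tr T.X₂ hW t) : T.Exact := by
  refine (OX.exact_iff T).2 fun x => (ShortComplex.moduleCat_exact_iff _).2 fun e he => ?_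
  obtain ⟨U, hx, t, rfl⟩ := OX.germ_exists _ (show OX.stalkObj x (DCoh.toP.obj T.X₂) from e)
  have h1 : OX.germ (DCoh.toP.obj T.X₃) U hx (T.g.app U t) = 0 :=
    (OX.stalkPre_map_germ (DCoh.toP.map T.g) U hx t).symm.trans he
  obtain ⟨W, hxW, iU, iV, e'⟩ := TopCat.Presheaf.germ_eq (OX.prs (DCoh.toP.obj T.X₃)) x hx hx _ 0
    (h1.trans (map_zero (OX.germ (DCoh.toP.obj T.X₃) U hx)).symm)
  have h2 : T.g.app W (tr T.X₂ (leOfHom iU) t) = 0 :=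
    (app_tr T.g (leOfHom iU) t).trans (e'.trans (map_zero (T.X₃.presheaf.map iV.op).hom))
  obtain ⟨W', hW', hxW', s, hs⟩ := h x W hxW _ h2
  refine ⟨OX.germ (DCoh.toP.obj T.X₁) W' hxW' s, ?_⟩
  refine (OX.stalkPre_map_germ (DCoh.toP.map T.f) W' hxW' s).trans ?_
  refine (congrArg (OX.germ (DCoh.toP.obj T.X₂) W' hxW') (hs.trans (tr_tr T.X₂ (leOfHom iU) hW' t))).trans ?_
  exact OX.germ_map (DCoh.toP.obj T.X₂) (homOfLE (hW'.trans (leOfHom iU))) hxW' t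

theorem epi_of_local_lift {X : Scheme.{u}} {M N : X.Modules} (f : M ⟶ N)
    (h : ∀ (x : X) (V : X.Opens), x ∈ V → ∀ t : Γ(N, V),
      ∃ (W : X.Opens) (hW : W ≤ V), x ∈ W ∧ ∃ s : Γ(M, W), f.app W s = tr N hW t) : Epi f :=
  (ShortComplex.exact_iff_epi (ShortComplex.mk f (0 : N ⟶ N) comp_zero) rfl).1
    (exact_of_local_lift _ fun x V hx t _ => h x V hx t)

section rel

variable {S P : Scheme.{u}} {𝒮 : RelProj.QCGrAlg S} {p : P ⟶ S}
  {chart : ∀ (U : S.Opens) (hU : IsAffineOpen U), (((p ⁻¹ᵁ U : P.Opens) : Scheme.{u}) ≅ Proj (𝒮.deg U hU))}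
  {ℳ 𝒩 ℒ : RelProj.GrModule 𝒮} (u : ℳ.mod ⟶ 𝒩.mod) (hu : RelProj.IsGrModHom u)
  (v : 𝒩.mod ⟶ ℒ.mod) (hv : RelProj.IsGrModHom v) (n : ℤ) {F G H : P.Modules}
  {lam : ∀ (U : S.Opens) (hU : IsAffineOpen U),
    F ⟶ (Scheme.Modules.pushforward (RelProj.emb p chart U hU)).obj (GrMod.tilde (𝒮.deg U hU) (ℳ.deg U hU) n)}
  (hF : RelProj.IsRelTilde 𝒮 p chart ℳ n F lam)
  {lam' : ∀ (U : S.Opens) (hU : IsAffineOpen U),
    G ⟶ (Scheme.Modules.pushforward (RelProj.emb p chart U hU)).obj (GrMod.tilde (𝒮.deg U hU) (𝒩.deg U hU) n)}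
  (hG : RelProj.IsRelTilde 𝒮 p chart 𝒩 n G lam')
  {lam'' : ∀ (U : S.Opens) (hU : IsAffineOpen U),
    H ⟶ (Scheme.Modules.pushforward (RelProj.emb p chart U hU)).obj (GrMod.tilde (𝒮.deg U hU) (ℒ.deg U hU) n)}
  (ut : F ⟶ G)
  (hut : ∀ (U : S.Opens) (hU : IsAffineOpen U), ut ≫ lam' U hU = lam U hU ≫ mapChart p chart n u hu ⟨U, hU⟩)
  (vt : G ⟶ H)
  (hvt : ∀ (U : S.Opens) (hU : IsAffineOpen U), vt ≫ lam'' U hU = lam' U hU ≫ mapChart p chart n v hv ⟨U, hU⟩)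

theorem exists_affine (p : P ⟶ S) (x : P) : ∃ U : S.AffineZariskiSite, p x ∈ U.1 := by
  obtain ⟨U, hU, hxU, -⟩ := exists_isAffineOpen_mem_and_subset (Opens.mem_top (p x))
  exact ⟨⟨U, hU⟩, hxU⟩

include hF hG hut in
/-- A lift on a chart gives a lift on the relative Proj. -/
theorem lift_of_chart (U : S.AffineZariskiSite) (y : ProjectiveSpectrum (dg 𝒮 U)) {V : P.Opens}
    (hy : em p chart U y ∈ V) (t : Γ(G, V)) {w : 𝒮.presheaf.obj (op U.1)} (hwy : w ∉ y.asHomogeneousIdeal)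
    (hlift : ∀ (V' : (Proj (dg 𝒮 U)).Opens) (_ : V' ≤ Proj.basicOpen (dg 𝒮 U) w) (hV' : V' ≤ em p chart U ⁻¹ᵁ V),
      ∃ s : Γ(GrMod.tilde (dg 𝒮 U) (ℳ.deg U.1 U.2) n, V'),
        (GrMod.map (dg 𝒮 U)
          (show ℳ.mod.val.obj (op U.1) →ₗ[𝒮.presheaf.obj (op U.1)] 𝒩.mod.val.obj (op U.1) from (u.val.app (op U.1)).hom)
          (hu U.1 U.2) n).app V' s =
          mres (GrMod.tilde (dg 𝒮 U) (𝒩.deg U.1 U.2) n) hV' ((lam' U.1 U.2).app V t)) :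
    ∃ (W : P.Opens) (hW : W ≤ V), em p chart U y ∈ W ∧ ∃ s : Γ(F, W), ut.app W s = tr G hW t := by
  let W : P.Opens := V ⊓ em p chart U ''ᵁ Proj.basicOpen (dg 𝒮 U) w
  have hWU : W ≤ p ⁻¹ᵁ U.1 := by
    rintro _ ⟨-, z, -, rfl⟩
    exact (mem_opensRange_em U).mp ⟨z, rfl⟩
  obtain ⟨s', hs'⟩ := hlift (em p chart U ⁻¹ᵁ W) (by
    rintro z ⟨-, z', hz', hzz⟩
    exact (em p chart U).isOpenEmbedding.injective hzz ▸ hz') fun z hz => hz.1
  obtain ⟨s, hs⟩ := (hF.bijective U.1 U.2 W hWU).2 s'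
  refine ⟨W, inf_le_left, ⟨hy, y, hwy, rfl⟩, s, (hG.bijective U.1 U.2 W hWU).1 ?_⟩
  refine (congrArg (fun ψ => Scheme.Modules.Hom.app ψ W s) (hut U.1 U.2)).trans ?_
  rw [app_tr]
  exact (congrArg ((mapChart p chart n u hu U).app W) hs).trans hs'

include hF hG hut hvt in
/-- Lifts of the sections killed by the second map. -/
theorem local_lift (n₀ : ℕ)
    (hex : ∀ (U : S.Opens) (hU : IsAffineOpen U) (i : ℕ), n₀ ≤ i → ∀ m ∈ 𝒩.deg U hU i,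
      (v.val.app (op U)).hom m = 0 → ∃ b ∈ ℳ.deg U hU i, (u.val.app (op U)).hom b = m)
    (x : P) (V : P.Opens) (hx : x ∈ V) (t : Γ(G, V)) (ht : vt.app V t = 0) :
    ∃ (W : P.Opens) (hW : W ≤ V), x ∈ W ∧ ∃ s : Γ(F, W), ut.app W s = tr G hW t := by
  obtain ⟨U, hxU⟩ := exists_affine p x
  obtain ⟨y, rfl⟩ := (mem_opensRange_em (chart := chart) U).mpr hxU
  have ht' : (GrMod.map (dg 𝒮 U)
      (show 𝒩.mod.val.obj (op U.1) →ₗ[𝒮.presheaf.obj (op U.1)] ℒ.mod.val.obj (op U.1) from (v.val.app (op U.1)).hom)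
      (hv U.1 U.2) n).app (em p chart U ⁻¹ᵁ V) ((lam' U.1 U.2).app V t) = 0 := by
    refine (congrArg (fun ψ => Scheme.Modules.Hom.app ψ V t) (hvt U.1 U.2)).symm.trans ?_
    show (lam'' U.1 U.2).app V (vt.app V t) = 0
    rw [ht, map_zero]
  obtain ⟨w, hwy, -, hlift⟩ := exists_local_lift
    (show ℳ.mod.val.obj (op U.1) →ₗ[𝒮.presheaf.obj (op U.1)] 𝒩.mod.val.obj (op U.1) from (u.val.app (op U.1)).hom)
    (hu U.1 U.2) _ (hv U.1 U.2) n₀ (fun i m hi hm h => hex U.1 U.2 i hi m hm h) n _ ht' ⟨y, hx⟩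
  exact lift_of_chart u hu n hF hG ut hut U y hx t hwy hlift

include hF hG hut hvt in
theorem exact_relTilde (hex : ∀ (U : S.Opens) (_ : IsAffineOpen U),
      Function.Exact (u.val.app (op U)).hom (v.val.app (op U)).hom) (w : ut ≫ vt = 0) :
    (ShortComplex.mk ut vt w).Exact := by
  refine exact_of_local_lift _ fun x V hx t ht =>
    local_lift u hu v hv n hF hG ut hut vt hvt 0 (fun U hU i _ m hm h => ?_) x V hx t ht
  obtain ⟨b, hb⟩ := (hex U hU m).mp h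
  exact ⟨DirectSum.decompose (ℳ.deg U hU) b i, SetLike.coe_mem _, by
    refine (map_decompose_lin (ℳ := ℳ.deg U hU) (𝒩 := 𝒩.deg U hU)
      (show ℳ.mod.val.obj (op U) →ₗ[𝒮.presheaf.obj (op U)] 𝒩.mod.val.obj (op U) from (u.val.app (op U)).hom)
      (hu U hU) b i).trans ?_
    refine Eq.trans ?_ (DirectSum.decompose_of_mem_same (𝒩.deg U hU) hm)
    exact congrArg (fun z => (DirectSum.decompose (𝒩.deg U hU) z i : 𝒩.mod.val.obj (op U))) hb⟩

include hF hG hut in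
theorem epi_relTilde (n₀ : ℕ)
    (hsurj : ∀ (U : S.Opens) (hU : IsAffineOpen U) (i : ℕ), n₀ ≤ i →
      ∀ m ∈ 𝒩.deg U hU i, ∃ b ∈ ℳ.deg U hU i, (u.val.app (op U)).hom b = m) : Epi ut :=
  epi_of_local_lift _ fun x V hx t => by
    obtain ⟨U, hxU⟩ := exists_affine p x
    obtain ⟨y, rfl⟩ := (mem_opensRange_em (chart := chart) U).mpr hxU
    obtain ⟨w, hwy, -, hlift⟩ := exists_local_lift (ℳ := ℳ.deg U.1 U.2) (𝒩 := 𝒩.deg U.1 U.2) (ℒ := 𝒩.deg U.1 U.2)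
      (show ℳ.mod.val.obj (op U.1) →ₗ[𝒮.presheaf.obj (op U.1)] 𝒩.mod.val.obj (op U.1) from (u.val.app (op U.1)).hom)
      (hu U.1 U.2) (0 : 𝒩.mod.val.obj (op U.1) →ₗ[𝒮.presheaf.obj (op U.1)] 𝒩.mod.val.obj (op U.1))
      (fun _ _ _ => zero_mem _) n₀ (fun i m hi hm _ => hsurj U.1 U.2 i hi m hm) n ((lam' U.1 U.2).app V t)
      (evM_ext fun z => map_zero_locMap _ _) ⟨y, hx⟩
    exact lift_of_chart u hu n hF hG ut hut U y hx t hwy hlift

include hF hut in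
theorem mono_relTilde (n₀ : ℕ)
    (hinj : ∀ (U : S.Opens) (hU : IsAffineOpen U) (i : ℕ), n₀ ≤ i →
      ∀ m ∈ ℳ.deg U hU i, (u.val.app (op U)).hom m = 0 → m = 0) : Mono ut := by
  refine ZClosure.mono_of_basis ut fun x W hx => ?_
  obtain ⟨U, hxU⟩ := exists_affine p x
  refine ⟨W ⊓ p ⁻¹ᵁ U.1, ⟨hx, hxU⟩, inf_le_left, fun s s' h => (hF.bijective U.1 U.2 _ inf_le_right).1 ?_⟩
  refine injective_map_app
    (show ℳ.mod.val.obj (op U.1) →ₗ[𝒮.presheaf.obj (op U.1)] 𝒩.mod.val.obj (op U.1) from (u.val.app (op U.1)).hom)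
    (hu U.1 U.2) n₀ (fun i m hi hm h0 => hinj U.1 U.2 i hi m hm h0) n _ ?_
  refine (congrArg (fun ψ => Scheme.Modules.Hom.app ψ _ s) (hut U.1 U.2)).symm.trans ?_
  exact (congrArg ((lam' U.1 U.2).app _) h).trans (congrArg (fun ψ => Scheme.Modules.Hom.app ψ _ s') (hut U.1 U.2))

include hF in
theorem isZero_relTilde (hTN : ℳ.IsTN) : IsZero F := by
  obtain ⟨n₀, h0⟩ := hTN
  refine (IsZero.iff_id_eq_zero F).2 (hom_ext_lam n hF fun U hU => ?_)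
  refine Scheme.Modules.hom_ext _ _ fun W => ConcreteCategory.hom_ext _ _ fun s => ?_
  exact (eq_zero_of_eventually_zero (ℳ := ℳ.deg U hU) n₀ (fun i m hi hm => h0 U hU i hi m hm) n _).trans
    (eq_zero_of_eventually_zero (ℳ := ℳ.deg U hU) n₀ (fun i m hi hm => h0 U hU i hi m hm) n _).symm

end rel

end GrothLib.RelTilde8
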