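import Groth.Agent.Lib.RelTilde8.TN
import Groth.Agent.Lib.QCoh.FT
import Groth.Prelude.Def_CohB1

/-!
# Finite type of `ℳ~`
-/

set_option autoImplicit false
set_option backward.isDefEq.respectTransparency false
set_option maxHeartbeats 400000

universe u

open CategoryTheory AlgebraicGeometry TopologicalSpace Opposite
open GrothLib.RelProjK (dg rs em mem_opensRange_em)
open GrothLib.RelTilde8.O (ev)

noncomputable section

namespace GrothLib.RelTilde8

section ring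

variable {A σ : Type u} [CommRing A] [SetLike σ A] [AddSubgroupClass σ A] {𝒜 : ℕ → σ} [GradedRing 𝒜]
variable {M τ : Type u} [AddCommGroup M] [Module A M] [SetLike τ M] [AddSubgroupClass τ M] {ℳ : ℕ → τ}
  [SetLike.GradedSMul 𝒜 ℳ] [DirectSum.Decomposition ℳ]

/-- A quotient of homogeneous elements of the same degree, as a section of the structure sheaf. -/
def fracO {V : (Proj 𝒜).Opens} {j : ℕ} (a b : A) (ha : a ∈ 𝒜 j) (hb : b ∈ 𝒜 j)
    (nin : ∀ y : V, b ∉ y.1.asHomogeneousIdeal) : Γ(Proj 𝒜, V) :=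
  ⟨fun y => HomogeneousLocalization.mk ⟨j, ⟨a, ha⟩, ⟨b, hb⟩, nin y⟩,
    fun y => ⟨V, y.2, 𝟙 _, j, ⟨a, ha⟩, ⟨b, hb⟩, nin, fun _ => rfl⟩⟩

theorem ev_fracO {V : (Proj 𝒜).Opens} {j : ℕ} (a b : A) (ha : a ∈ 𝒜 j) (hb : b ∈ 𝒜 j)
    (nin : ∀ y : V, b ∉ y.1.asHomogeneousIdeal) (y : V) :
    ev y (fracO a b ha hb nin) = Localization.mk a ⟨b, nin y⟩ :=
  HomogeneousLocalization.val_mk _

/-- For `f` of degree `1`, the sections of `M~` over `D(f)` are generated by the `z / f ^ deg z`. -/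
theorem exists_generators {f : A} (hf : f ∈ 𝒜 1) (V : (Proj 𝒜).Opens) (hV : V = Proj.basicOpen 𝒜 f)
    (s : Finset M) (e : {z // z ∈ s} → ℕ) (he : ∀ z, z.1 ∈ ℳ (e z)) (n : ℕ)
    (hgen : ∀ k, n ≤ k → ∀ m ∈ ℳ k, m ∈ Submodule.span A (s : Set M)) :
    ∃ G : {z // z ∈ s} → Γ(GrMod.tilde 𝒜 ℳ 0, V), Submodule.span Γ(Proj 𝒜, V) (Set.range G) = ⊤ := by
  classical
  subst hV
  have hpow : ∀ k, f ^ k ∈ 𝒜 k := fun k => by simpa using SetLike.pow_mem_graded k hf
  have hnin : ∀ k, ∀ y : Proj.basicOpen 𝒜 f, f ^ k ∉ y.1.asHomogeneousIdeal :=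
    fun k y hy => y.2 (y.1.isPrime.mem_of_pow_mem k hy)
  let G : {z // z ∈ s} → Γ(GrMod.tilde 𝒜 ℳ 0, Proj.basicOpen 𝒜 f) := fun z =>
    fracM (n := 0) z.1 (f ^ e z) (he z) (hpow _) (hnin _) (Or.inl (by simp))
  refine ⟨G, eq_top_iff.mpr fun t _ => ?_⟩
  obtain ⟨k, -, p, a, hp, ha, hval⟩ := exists_frac 𝒜 hf one_pos t
  obtain rfl : p = k := by push_cast at hp; omega
  let K := p + n
  let Φ : M → Γ(GrMod.tilde 𝒜 ℳ 0, Proj.basicOpen 𝒜 f) := fun m =>
    fracM (n := 0) (DirectSum.decompose ℳ m K : M) (f ^ K) (SetLike.coe_mem _) (hpow _) (hnin _) (Or.inl (by simp))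
  have hΦ0 : Φ 0 = 0 := evM_ext fun y => by
    rw [evM_fracM, evM_zero, DirectSum.decompose_zero, DirectSum.zero_apply, ZeroMemClass.coe_zero,
      LocalizedModule.zero_mk]
  have hΦadd : ∀ m m', Φ (m + m') = Φ m + Φ m' := fun m m' => evM_ext fun y => by
    rw [evM_add, evM_fracM, evM_fracM, evM_fracM, DirectSum.decompose_add, DirectSum.add_apply,
      AddMemClass.coe_add, LocalizedModule.mk_add_mk, LocalizedModule.mk_eq]
    exact ⟨1, by simp only [Submonoid.smul_def, OneMemClass.coe_one, one_smul, Submonoid.coe_mul, smul_add,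
      mul_smul]⟩
  have hfa : f ^ n • a ∈ ℳ K := by
    rw [show K = n + p from Nat.add_comm p n]
    exact smul_mem (hpow n) ha
  have ht : t = Φ (f ^ n • a) := evM_ext fun y => by
    rw [hval y, evM_fracM, DirectSum.decompose_of_mem_same ℳ hfa, LocalizedModule.mk_eq]
    exact ⟨1, by simp only [Submonoid.smul_def, OneMemClass.coe_one, one_smul, ← mul_smul, K, pow_add]⟩
  rw [ht]
  have hspan := hgen K (Nat.le_add_left n p) _ hfa
  suffices H : ∀ x ∈ Submodule.span A (s : Set M), ∀ b : A, Φ (b • x) ∈ Submodule.span _ (Set.range G) by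
    have := H _ hspan 1
    rwa [one_smul] at this
  intro x hx
  induction hx using Submodule.span_induction with
  | mem z hz =>
    intro b
    refine DirectSum.Decomposition.inductionOn 𝒜
      (motive := fun b : A => Φ (b • z) ∈ Submodule.span _ (Set.range G)) ?_ ?_ ?_ b
    · rw [zero_smul, hΦ0]; exact zero_mem _
    · intro j c
      rcases eq_or_ne (j + e ⟨z, hz⟩) K with hK | hK
      · have : Φ ((c : A) • z) = fracO (V := Proj.basicOpen 𝒜 f) (c : A) (f ^ j) c.2 (hpow j) (hnin j) • G ⟨z, hz⟩ := by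
          refine evM_ext fun y => ?_
          rw [evM_smul, evM_fracM, evM_fracM, ev_fracO, LocalizedModule.mk_smul_mk,
            DirectSum.decompose_of_mem_same ℳ (hK ▸ smul_mem c.2 (he ⟨z, hz⟩)), LocalizedModule.mk_eq]
          exact ⟨1, by simp only [Submonoid.smul_def, OneMemClass.coe_one, one_smul, Submonoid.coe_mul, ← pow_add, hK]⟩
        rw [this]
        exact Submodule.smul_mem _ _ (Submodule.subset_span ⟨_, rfl⟩)
      · have : Φ ((c : A) • z) = 0 := evM_ext fun y => by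
          rw [evM_fracM, evM_zero, DirectSum.decompose_of_mem_ne ℳ (smul_mem c.2 (he ⟨z, hz⟩)) hK,
            LocalizedModule.zero_mk]
        rw [this]; exact zero_mem _
    · intro b b' hb hb'
      rw [add_smul, hΦadd]; exact add_mem hb hb'
  | zero => intro b; rw [smul_zero, hΦ0]; exact zero_mem _
  | add x y _ _ hx hy => intro b; rw [smul_add, hΦadd]; exact add_mem (hx b) (hy b)
  | smul c x _ hx => intro b; rw [← mul_smul]; exact hx _

end ring

section rel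

variable {S P : Scheme.{u}} {𝒮 : RelProj.QCGrAlg S} {p : P ⟶ S}
  {chart : ∀ (U : S.Opens) (hU : IsAffineOpen U), (((p ⁻¹ᵁ U : P.Opens) : Scheme.{u}) ≅ Proj (𝒮.deg U hU))}
  {ℳ : RelProj.GrModule 𝒮} {F : P.Modules}
  {lam : ∀ (U : S.Opens) (hU : IsAffineOpen U),
    F ⟶ (Scheme.Modules.pushforward (RelProj.emb p chart U hU)).obj (GrMod.tilde (𝒮.deg U hU) (ℳ.deg U hU) 0)}
  (hP : RelProj.IsRelProj 𝒮 p chart) (hF : RelProj.IsRelTilde 𝒮 p chart ℳ 0 F lam)

include hF in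
/-- (TF) gives finite type, the algebra being generated by degree `1`. -/
theorem isFT_of_isTF (hgen : 𝒮.IsGenDegOne) (hTF : ℳ.IsTF) (hqc : Coh.IsQCoh F) : CohB1.IsFT F := by
  classical
  obtain ⟨n, hn⟩ := hTF
  haveI : F.IsQuasicoherent := hqc
  let I := Σ U : S.AffineZariskiSite, {f : 𝒮.presheaf.obj (op U.1) // f ∈ dg 𝒮 U 1}
  let W : I → P.Opens := fun i => em p chart i.1 ''ᵁ Proj.basicOpen (dg 𝒮 i.1) i.2.1
  refine QCoh.isFiniteType_of_moduleFinite F W ?_ (fun i => ?_) fun i => ?_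
  · refine top_le_iff.mp fun x _ => ?_
    obtain ⟨U, hxU⟩ := exists_affine p x
    obtain ⟨y, rfl⟩ := (mem_opensRange_em (chart := chart) U).mpr hxU
    obtain ⟨⟨⟨d, hd⟩, f, hf⟩, hyf⟩ :=
      Opens.mem_iSup.mp ((iSup_basicOpen_pos (𝒜 := dg 𝒮 U)).ge (Opens.mem_top y))
    by_contra hc
    refine hyf ((?_ : Ideal.span (dg 𝒮 U 1 : Set (𝒮.presheaf.obj (op U.1))) ≤ y.asHomogeneousIdeal.toIdeal)
      (Ideal.pow_le_self hd.ne' (mem_pow_of_gen (hgen U.1 U.2) _ (fun x hx => Ideal.subset_span hx) hf)))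
    refine Ideal.span_le.mpr fun g hg => ?_
    by_contra hgy
    exact hc (Opens.mem_iSup.mpr ⟨⟨U, g, hg⟩, ⟨y, hgy, rfl⟩⟩)
  · exact (Proj.isAffineOpen_basicOpen _ _ i.2.2 one_pos).image_of_isOpenImmersion (em p chart i.1)
  · obtain ⟨U, f, hf⟩ := i
    obtain ⟨s, hs, hspan⟩ := (Submodule.fg_span_iff_fg_span_finset_subset _).1 (hn U.1 U.2)
    have he : ∀ z : {z // z ∈ s}, ∃ e, z.1 ∈ ℳ.deg U.1 U.2 e := fun z => by
      obtain ⟨k, -, hk⟩ := Set.mem_iUnion₂.1 (hs z.2)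
      exact ⟨k, hk⟩
    choose e he using he
    have hWU : W ⟨U, f, hf⟩ ≤ p ⁻¹ᵁ U.1 := by
      rintro _ ⟨z, -, rfl⟩
      exact (mem_opensRange_em U).mp ⟨z, rfl⟩
    have hV : em p chart U ⁻¹ᵁ W ⟨U, f, hf⟩ = Proj.basicOpen (dg 𝒮 U) f :=
      (em p chart U).preimage_image_eq _
    obtain ⟨G, hG⟩ := exists_generators hf _ hV s e he n fun k hk m hm =>
      hspan ▸ Submodule.subset_span (Set.mem_iUnion₂.2 ⟨k, Set.mem_Ici.2 hk, hm⟩)
    have hb := hF.bijective U.1 U.2 _ hWU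
    choose G' hG' using fun z => hb.2 (G z)
    refine ⟨⟨Finset.univ.image G', eq_top_iff.mpr fun t _ => ?_⟩⟩
    rw [Finset.coe_image, Finset.coe_univ, Set.image_univ]
    suffices H : ∀ w : Γ(GrMod.tilde (dg 𝒮 U) (ℳ.deg U.1 U.2) 0, em p chart U ⁻¹ᵁ W ⟨U, f, hf⟩),
        w ∈ Submodule.span _ (Set.range G) →
          ∀ t : Γ(F, W ⟨U, f, hf⟩), (lam U.1 U.2).app _ t = w → t ∈ Submodule.span _ (Set.range G') from
      H _ (hG ▸ Submodule.mem_top) t rfl
    intro w hw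
    induction hw using Submodule.span_induction with
    | mem w hw =>
      intro t ht
      obtain ⟨z, rfl⟩ := hw
      exact hb.1 (ht.trans (hG' z).symm) ▸ Submodule.subset_span ⟨z, rfl⟩
    | zero =>
      intro t ht
      rw [show t = 0 from hb.1 (ht.trans (map_zero _).symm)]
      exact zero_mem _
    | add w w' _ _ hw hw' =>
      intro t ht
      obtain ⟨a, rfl⟩ := hb.2 w
      obtain ⟨b, rfl⟩ := hb.2 w'
      rw [show t = a + b from hb.1 (ht.trans (map_add _ a b).symm)]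
      exact add_mem (hw a rfl) (hw' b rfl)
    | smul r w _ hw =>
      intro t ht
      haveI := (em p chart U).isIso_app (W ⟨U, f, hf⟩) fun x hx => (mem_opensRange_em U).mpr (hWU hx)
      obtain ⟨r', rfl⟩ := (ConcreteCategory.bijective_of_isIso ((em p chart U).app (W ⟨U, f, hf⟩))).2 r
      obtain ⟨a, rfl⟩ := hb.2 w
      rw [show t = r' • a from hb.1 (ht.trans ((lam U.1 U.2).app_smul r' a).symm)]
      exact Submodule.smul_mem _ _ (hw a rfl)

end rel

end GrothLib.RelTilde8
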