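import Groth.Agent.Lib.RelTilde8.Exact

/-!
# Vanishing of `ℳ~` forces (TN)
-/

set_option autoImplicit false
set_option backward.isDefEq.respectTransparency false
set_option maxHeartbeats 400000

universe u

open CategoryTheory CategoryTheory.Limits AlgebraicGeometry TopologicalSpace Opposite
open GrothLib.RelProjK (dg rs em mem_opensRange_em)

noncomputable section

namespace GrothLib.RelTilde8

section ring

variable {A σ : Type u} [CommRing A] [SetLike σ A] [AddSubgroupClass σ A] {𝒜 : ℕ → σ} [GradedRing 𝒜]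
variable {M τ : Type u} [AddCommGroup M] [Module A M] [SetLike τ M] [AddSubgroupClass τ M] {ℳ : ℕ → τ}
  [SetLike.GradedSMul 𝒜 ℳ] [DirectSum.Decomposition ℳ]

/-- If the ring is generated by degrees `0` and `1`, an element of degree `j` lies in the `j`-th power of any ideal
containing the degree `1` part. -/
theorem mem_pow_of_gen (hgen : Subring.closure ((𝒜 0 : Set A) ∪ (𝒜 1 : Set A)) = ⊤) (J : Ideal A)
    (hJ : ∀ x ∈ 𝒜 1, x ∈ J) {j : ℕ} {x : A} (hx : x ∈ 𝒜 j) : x ∈ J ^ j := by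
  classical
  suffices H : ∀ x : A, ∀ j, (DirectSum.decompose 𝒜 x j : A) ∈ J ^ j by
    have := H x j
    rwa [DirectSum.decompose_of_mem_same 𝒜 hx] at this
  have hmon : ∀ x ∈ Submonoid.closure ((𝒜 0 : Set A) ∪ (𝒜 1 : Set A)), ∃ l, x ∈ 𝒜 l ∧ x ∈ J ^ l := by
    intro x hx
    induction hx using Submonoid.closure_induction with
    | mem x hx =>
      rcases hx with h | h
      · exact ⟨0, h, by simp⟩
      · exact ⟨1, h, by simpa using hJ x h⟩
    | one => exact ⟨0, SetLike.one_mem_graded 𝒜, by simp⟩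
    | mul a b _ _ ha hb =>
      obtain ⟨l, ha, ha'⟩ := ha
      obtain ⟨l', hb, hb'⟩ := hb
      exact ⟨l + l', SetLike.mul_mem_graded ha hb, by rw [pow_add]; exact Ideal.mul_mem_mul ha' hb'⟩
  intro x j
  have hmem : x ∈ Subring.closure ((𝒜 0 : Set A) ∪ (𝒜 1 : Set A)) := hgen ▸ Subring.mem_top x
  rw [Subring.mem_closure_iff] at hmem
  induction hmem using AddSubgroup.closure_induction with
  | mem x hx =>
    obtain ⟨l, hl, hl'⟩ := hmon x hx
    rcases eq_or_ne l j with rfl | h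
    · rwa [DirectSum.decompose_of_mem_same 𝒜 hl]
    · rw [DirectSum.decompose_of_mem_ne 𝒜 hl h]
      exact zero_mem _
  | zero => simp
  | add a b _ _ ha hb =>
    rw [DirectSum.decompose_add, DirectSum.add_apply, AddMemClass.coe_add]
    exact add_mem ha hb
  | neg a _ ha =>
    rw [DirectSum.decompose_neg, DFinsupp.neg_apply, NegMemClass.coe_neg]
    exact neg_mem ha

/-- A graded module with finitely generated tail, killed by powers of the finitely many generators of degree `1`,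
vanishes in large degrees. -/
theorem exists_forall_eq_zero (hgen : Subring.closure ((𝒜 0 : Set A) ∪ (𝒜 1 : Set A)) = ⊤)
    (T : Finset A) (hT : ∀ x ∈ 𝒜 1, x ∈ Ideal.span (T : Set A)) (n : ℕ)
    (hfg : (Submodule.span A (⋃ k ∈ Set.Ici n, (ℳ k : Set M))).FG)
    (hkill : ∀ t ∈ T, ∀ (i : ℕ) (m : M), m ∈ ℳ i → ∃ k : ℕ, t ^ k • m = 0) :
    ∃ N : ℕ, ∀ k, N ≤ k → ∀ m ∈ ℳ k, m = 0 := by
  classical
  obtain ⟨s, hs, hspan⟩ := (Submodule.fg_span_iff_fg_span_finset_subset _).1 hfg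
  have he : ∀ z ∈ s, ∃ e, z ∈ ℳ e := fun z hz => by
    obtain ⟨k, -, hk⟩ := Set.mem_iUnion₂.1 (hs hz)
    exact ⟨k, hk⟩
  choose e he using he
  let J : Ideal A := Ideal.span (T : Set A)
  let Q : Ideal A := (Submodule.span A (s : Set M)).annihilator
  have hJQ : J ≤ Q.radical := Ideal.span_le.mpr fun t ht => by
    choose K hK using fun z (hz : z ∈ s) => hkill t ht (e z hz) z (he z hz)
    refine ⟨s.attach.sup fun z => K z.1 z.2, Submodule.mem_annihilator_span _ _ |>.mpr fun z => ?_⟩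
    obtain ⟨c, hc⟩ := Nat.exists_eq_add_of_le
      (Finset.le_sup (f := fun z : {z // z ∈ s} => K z.1 z.2) (Finset.mem_attach s ⟨z.1, z.2⟩))
    rw [hc, add_comm, pow_add, mul_smul, hK, smul_zero]
  obtain ⟨L, hL⟩ := Ideal.exists_pow_le_of_le_radical_of_fg hJQ ⟨T, rfl⟩
  refine ⟨n + (s.attach.sup fun z => e z.1 z.2) + L, fun k hk m hm => ?_⟩
  have hmem : m ∈ Submodule.span A (s : Set M) :=
    hspan ▸ Submodule.subset_span (Set.mem_iUnion₂.2 ⟨k, Set.mem_Ici.2 (by omega), hm⟩)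
  suffices H : ∀ x ∈ Submodule.span A (s : Set M), ∀ b : A, (DirectSum.decompose ℳ (b • x) k : M) = 0 by
    have := H m hmem 1
    rwa [one_smul, DirectSum.decompose_of_mem_same ℳ hm] at this
  intro x hx
  induction hx using Submodule.span_induction with
  | mem z hz =>
    intro b
    have hle : e z hz + L ≤ k := by
      have := Finset.le_sup (f := fun z : {z // z ∈ s} => e z.1 z.2) (Finset.mem_attach s ⟨z, hz⟩)
      simp only at this
      omega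
    obtain ⟨j, rfl⟩ := Nat.exists_eq_add_of_le' (Nat.le_of_add_right_le hle)
    rw [decompose_smul_of_mem (𝒜 := 𝒜) (he z hz) b j]
    refine (Submodule.mem_annihilator.mp (hL (Ideal.pow_le_pow_right (by omega : L ≤ j)
      (mem_pow_of_gen hgen J hT (SetLike.coe_mem _))))) z (Submodule.subset_span hz)
  | zero => intro b; simp
  | add x y _ _ hx hy =>
    intro b
    rw [smul_add, DirectSum.decompose_add, DirectSum.add_apply, AddMemClass.coe_add, hx b, hy b, add_zero]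
  | smul c x _ hx => intro b; rw [← mul_smul]; exact hx _

end ring

section rel

variable {S P : Scheme.{u}} {𝒮 : RelProj.QCGrAlg S} {p : P ⟶ S}
  {chart : ∀ (U : S.Opens) (hU : IsAffineOpen U), (((p ⁻¹ᵁ U : P.Opens) : Scheme.{u}) ≅ Proj (𝒮.deg U hU))}
  {ℳ : RelProj.GrModule 𝒮} {F : P.Modules}
  {lam : ∀ (U : S.Opens) (hU : IsAffineOpen U),
    F ⟶ (Scheme.Modules.pushforward (RelProj.emb p chart U hU)).obj (GrMod.tilde (𝒮.deg U hU) (ℳ.deg U hU) 0)}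
  (hF : RelProj.IsRelTilde 𝒮 p chart ℳ 0 F lam)

include hF in
/-- If `ℳ~` is zero, every homogeneous element is killed by a power of every element of degree `1`. -/
theorem exists_pow_smul_eq_zero_of_isZero (h0 : IsZero F) (U : S.AffineZariskiSite) {f : 𝒮.presheaf.obj (op U.1)}
    (hf : f ∈ dg 𝒮 U 1) {i : ℕ} {m : ℳ.mod.val.obj (op U.1)} (hm : m ∈ ℳ.deg U.1 U.2 i) :
    ∃ k : ℕ, f ^ k • m = 0 := by
  let W : P.Opens := em p chart U ''ᵁ Proj.basicOpen (dg 𝒮 U) f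
  have hW : W ≤ p ⁻¹ᵁ U.1 := by
    rintro _ ⟨z, -, rfl⟩
    exact (mem_opensRange_em U).mp ⟨z, rfl⟩
  have hsec : ∀ t : Γ(GrMod.tilde (dg 𝒮 U) (ℳ.deg U.1 U.2) 0, em p chart U ⁻¹ᵁ W), t = 0 := fun t => by
    obtain ⟨s, hs⟩ := (hF.bijective U.1 U.2 W hW).2 t
    have : s = 0 := congrArg (fun φ : F ⟶ F => φ.app W s) ((IsZero.iff_id_eq_zero F).mp h0)
    exact hs.symm.trans (by rw [this, map_zero])
  have hfi : f ^ i ∈ dg 𝒮 U i := by simpa using SetLike.pow_mem_graded i hf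
  refine exists_pow_smul_eq_zero (dg 𝒮 U) hf one_pos hm fun y hy => ?_
  have hyW : y ∈ em p chart U ⁻¹ᵁ W := ⟨y, hy, rfl⟩
  have hnin : ∀ z : (em p chart U ⁻¹ᵁ W : (Proj (dg 𝒮 U)).Opens), f ^ i ∉ z.1.asHomogeneousIdeal := by
    rintro ⟨z, z', hz', e⟩ hz
    obtain rfl := (em p chart U).isOpenEmbedding.injective e
    exact hz' (z'.isPrime.mem_of_pow_mem _ hz)
  have e := congrArg (evM (⟨y, hyW⟩ : (em p chart U ⁻¹ᵁ W : (Proj (dg 𝒮 U)).Opens)))
    (hsec (fracM (n := 0) m (f ^ i) hm hfi hnin (Or.inl (by simp))))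
  rw [evM_fracM, evM_zero, ← LocalizedModule.zero_mk (1 : y.asHomogeneousIdeal.toIdeal.primeCompl)] at e
  obtain ⟨⟨u, hu⟩, hu'⟩ := LocalizedModule.mk_eq.mp e
  simp only [Submonoid.smul_def, OneMemClass.coe_one, one_smul, smul_zero] at hu'
  exact ⟨u, hu, hu'⟩

variable (hℳ : Coh.IsQCoh ((AMod.toOS 𝒮.toQCAlg).obj ℳ.mod))

include hℳ in
/-- A section that vanishes on a basic open cover of an affine open vanishes. -/
theorem eq_zero_of_mrs_eq_zero (U : S.AffineZariskiSite) (m : ℳ.mod.val.obj (op U.1))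
    (h : ∀ x ∈ U.1, ∃ (D : S.AffineZariskiSite) (hD : D ≤ U), x ∈ D.1 ∧ mrs ℳ hD m = 0) : m = 0 := by
  haveI : ((AMod.toOS 𝒮.toQCAlg).obj ℳ.mod).IsQuasicoherent := hℳ
  let E : S.Modules := (AMod.toOS 𝒮.toQCAlg).obj ℳ.mod
  let m₀ : Γ(E, U.1) := m
  let I : Ideal Γ(S, U.1) := Ideal.radical (Ideal.torsionOf Γ(S, U.1) Γ(E, U.1) m₀)
  have hcov : (⨆ r : (I : Set Γ(S, U.1)), S.basicOpen r.1) = U.1 := by
    refine le_antisymm (iSup_le fun r => S.basicOpen_le _) fun x hx => ?_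
    obtain ⟨⟨V, hV⟩, hD, hxD, h0⟩ := h x hx
    obtain ⟨r, hr⟩ := id hD
    obtain rfl : S.basicOpen r = V := hr
    obtain ⟨k, hk⟩ := (QCoh.smulLift_and_smulSep_of_isAffineOpen U.2 E r).2 m₀ h0
    have hrI : r ∈ I := Ideal.mem_radical_iff.mpr ⟨k, (Ideal.mem_torsionOf_iff m₀ _).mpr hk⟩
    exact Opens.mem_iSup.mpr ⟨⟨r, hrI⟩, hxD⟩
  have h1 := (U.2.iSup_basicOpen_eq_self_iff (s := (I : Set Γ(S, U.1)))).mp hcov
  rw [Ideal.span_eq, Ideal.radical_eq_top, Ideal.eq_top_iff_one, Ideal.mem_torsionOf_iff] at h1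
  exact (one_smul Γ(S, U.1) m₀).symm.trans h1

include hℳ hF in
/-- Over a quasi-compact base, (TF) and `ℳ~ = 0` imply (TN). -/
theorem isTN_of_isZero [CompactSpace S] (hgen : 𝒮.IsGenDegOne) (hft : 𝒮.IsFTDeg 1) (hTF : ℳ.IsTF)
    (h0 : IsZero F) : ℳ.IsTN := by
  classical
  obtain ⟨n, hn⟩ := hTF
  have hloc : ∀ U : S.AffineZariskiSite, ∃ N : ℕ, ∀ k, N ≤ k → ∀ m ∈ ℳ.deg U.1 U.2 k, m = 0 := fun U => by
    obtain ⟨T, hT, hTc⟩ := hft U.1 U.2
    refine exists_forall_eq_zero (hgen U.1 U.2) T (fun x hx => ?_) n (hn U.1 U.2)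
      fun t ht i m hm => exists_pow_smul_eq_zero_of_isZero hF h0 U (hT ht) hm
    obtain ⟨c, rfl⟩ := hTc x hx
    exact Ideal.sum_mem _ fun t ht => Ideal.mul_mem_left _ _ (Ideal.subset_span ht)
  choose N hN using hloc
  obtain ⟨ι, hι, V, hV⟩ : ∃ (ι : Type u) (_ : Fintype ι) (V : ι → S.AffineZariskiSite), ∀ x : S, ∃ i, x ∈ (V i).1 := by
    obtain ⟨t, ht⟩ := isCompact_univ.elim_finite_subcover (fun U : S.AffineZariskiSite => (U.1 : Set S))
      (fun U => U.1.isOpen) fun x _ => by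
        obtain ⟨U, hU, hxU, -⟩ := exists_isAffineOpen_mem_and_subset (Opens.mem_top x)
        exact Set.mem_iUnion.mpr ⟨⟨U, hU⟩, hxU⟩
    refine ⟨{U // U ∈ t}, inferInstance, Subtype.val, fun x => ?_⟩
    obtain ⟨U, hU, hx⟩ := Set.mem_iUnion₂.mp (ht (Set.mem_univ x))
    exact ⟨⟨U, hU⟩, hx⟩
  refine ⟨Finset.univ.sup fun i => N (V i), fun U hU k hk m hm => ?_⟩
  refine eq_zero_of_mrs_eq_zero hℳ ⟨U, hU⟩ m fun x hx => ?_
  obtain ⟨i, hxi⟩ := hV x
  obtain ⟨f, g, hfg, hxf⟩ := exists_basicOpen_le_affine_inter hU (V i).2 x ⟨hx, hxi⟩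
  let D : S.AffineZariskiSite := ⟨S.basicOpen f, hU.basicOpen f⟩
  have hDU : D ≤ (⟨U, hU⟩ : S.AffineZariskiSite) := ⟨f, rfl⟩
  have hDV : D ≤ V i := ⟨g, hfg.symm⟩
  refine ⟨D, hDU, hxf, ?_⟩
  obtain ⟨c, hc, hcl, hsurj, -⟩ := mrs_localization hℳ hDV
  obtain ⟨l, m', hm'⟩ := hsurj (mrs ℳ hDU m)
  have hcm : rs 𝒮 hDV c ^ l • mrs ℳ hDU m ∈ ℳ.deg D.1 D.2 k := by
    have h1 : rs 𝒮 hDV c ^ l ∈ dg 𝒮 D (0 : ℕ) := by
      simpa using SetLike.pow_mem_graded l (show rs 𝒮 hDV c ∈ dg 𝒮 D 0 from (rs 𝒮 hDV).map_mem hc)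
    simpa using smul_mem (ℳ := ℳ.deg D.1 D.2) h1 (mrs_mem ℳ hDU k m hm)
  have h2 : rs 𝒮 hDV c ^ l • mrs ℳ hDU m = 0 := by
    refine ((DirectSum.decompose_of_mem_same (ℳ.deg D.1 D.2) hcm).symm.trans ?_)
    rw [← hm']
    refine (map_decompose (ℳ := ℳ.deg (V i).1 (V i).2) (𝒩 := ℳ.deg D.1 D.2) (rs 𝒮 hDV) (mrs ℳ hDV)
      (mrs_mem ℳ hDV) m' k).symm.trans ?_
    rw [hN (V i) k ((Finset.le_sup (f := fun i => N (V i)) (Finset.mem_univ i)).trans hk) _ (SetLike.coe_mem _),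
      map_zero]
  letI := (rs 𝒮 hDV).toRingHom.toAlgebra
  haveI := hcl
  have hu : IsUnit (rs 𝒮 hDV c) :=
    IsLocalization.map_units (𝒮.presheaf.obj (op D.1)) (⟨c, Submonoid.mem_powers c⟩ : Submonoid.powers c)
  exact (hu.pow l).smul_eq_zero.mp h2

end rel

end GrothLib.RelTilde8
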